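import Groth.Agent.PicTors18.Birational
import Groth.Agent.PicNormLib.Main
import Groth.Agent.PicTorsThick
import Mathlib.AlgebraicGeometry.AlgClosed.Basic
import Mathlib.FieldTheory.IsAlgClosed.Basic

/-! Functions near a bad point: values at the points over it and n-th roots. -/

set_option autoImplicit false
set_option linter.style.haveILetI false
set_option linter.unusedSectionVars false
set_option backward.isDefEq.respectTransparency false
set_option backward.isDefEq.respectTransparency.types false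
set_option maxHeartbeats 1000000

universe u

open CategoryTheory AlgebraicGeometry TopologicalSpace
open Groth.Agent.AModX

namespace Groth.Agent.PicTors18

/-- Points of a finite map over a closed point are closed. -/
theorem isClosed_of_over {X Y : Scheme.{u}} (π : Y ⟶ X) [IsFinite π] {b : X} (hb : IsClosed ({b} : Set X)) {y : Y}
    (hy : π y = b) : IsClosed ({y} : Set Y) := by
  haveI : DiscreteTopology (π ⁻¹' {b}) := (π.isDiscrete_preimage_singleton b).1
  have := ((hb.preimage π.continuous).isClosedEmbedding_subtypeVal.isClosedMap) _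
    (isClosed_discrete ({⟨y, hy⟩} : Set (π ⁻¹' {b})))
  rwa [Set.image_singleton] at this

section Val

variable {k : Type u} [Field k] [IsAlgClosed k] {X Y : Scheme.{u}} (f : X ⟶ Spec (CommRingCat.of k))
  [LocallyOfFiniteType f]

/-- The value of a function at a closed point. -/
noncomputable def val {x : X} (hx : IsClosed ({x} : Set X)) (W : X.Opens) (hxW : x ∈ W) : Γ(X, W) →+* k :=
  ((residueFieldIsoBase f x hx).hom.hom).comp (X.evaluation W x hxW).hom

theorem val_res {x : X} (hx : IsClosed ({x} : Set X)) {W W' : X.Opens} (h : W' ≤ W) (hxW : x ∈ W') (a : Γ(X, W)) :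
    val f hx W' hxW (resR h a) = val f hx W (h hxW) a := by
  show (residueFieldIsoBase f x hx).hom.hom (IsLocalRing.residue _ (X.presheaf.germ W' x hxW (resR h a))) =
    (residueFieldIsoBase f x hx).hom.hom (IsLocalRing.residue _ (X.presheaf.germ W x (h hxW) a))
  exact congrArg _ (congrArg _ (X.presheaf.germ_res_apply (homOfLE h) x hxW a))

theorem val_eq_zero_iff {x : X} (hx : IsClosed ({x} : Set X)) (W : X.Opens) (hxW : x ∈ W) (a : Γ(X, W)) :
    val f hx W hxW a = 0 ↔ x ∉ X.basicOpen a := by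
  rw [← Scheme.evaluation_eq_zero_iff_notMem_basicOpen X x hxW a]
  show (residueFieldIsoBase f x hx).hom.hom (X.evaluation W x hxW a) = 0 ↔ _
  exact map_eq_zero_iff _ ((residueFieldIsoBase f x hx).hom.hom).injective

theorem isUnit_val {x : X} (hx : IsClosed ({x} : Set X)) (W : X.Opens) (hxW : x ∈ W) {a : Γ(X, W)} (ha : IsUnit a) :
    val f hx W hxW a ≠ 0 := (ha.map _).ne_zero

theorem val_comp (π : Y ⟶ X) [LocallyOfFiniteType (π ≫ f)] {y : Y} (hy : IsClosed ({y} : Set Y))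
    (hx : IsClosed ({π y} : Set X)) (W : X.Opens) (hyW : π y ∈ W) (a : Γ(X, W)) :
    val (π ≫ f) hy (π ⁻¹ᵁ W) hyW (π.app W a) = val f hx W hyW a := by
  have h : (residueFieldIsoBase (π ≫ f) y hy).inv = (residueFieldIsoBase f (π y) hx).inv ≫ π.residueFieldMap y := by
    refine Spec.map_injective ?_
    rw [Spec.map_comp, SpecMap_residueFieldIsoBase_inv, SpecMap_residueFieldIsoBase_inv,
      Scheme.Hom.SpecMap_residueFieldMap_fromSpecResidueField_assoc]
  have h2 : π.residueFieldMap y ≫ (residueFieldIsoBase (π ≫ f) y hy).hom = (residueFieldIsoBase f (π y) hx).hom := by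
    have h3 := congrArg (fun φ => (residueFieldIsoBase f (π y) hx).hom ≫ φ ≫ (residueFieldIsoBase (π ≫ f) y hy).hom) h
    simpa using h3.symm
  show (residueFieldIsoBase (π ≫ f) y hy).hom (Y.evaluation (π ⁻¹ᵁ W) y hyW (π.app W a)) = _
  rw [← Scheme.evaluation_naturality_apply π y hyW]
  exact congr($h2 (X.evaluation W (π y) hyW a))

theorem isUnit_near (π : Y ⟶ X) [IsFinite π] [LocallyOfFiniteType (π ≫ f)] {b : X} (hb : IsClosed ({b} : Set X))
    {W : X.Opens} (hbW : b ∈ W) (s : Γ(Y, π ⁻¹ᵁ W))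
    (h : ∀ (y : Y) (hy : π y = b) (hyc : IsClosed ({y} : Set Y)),
      val (π ≫ f) hyc (π ⁻¹ᵁ W) (show π y ∈ W from hy ▸ hbW) s ≠ 0) :
    ∃ (W' : X.Opens) (hW' : W' ≤ W), b ∈ W' ∧ IsUnit (resR (π.preimage_mono hW') s) := by
  let W' : X.Opens := W ⊓ ⟨(π '' ((Y.basicOpen s : Set Y)ᶜ))ᶜ,
    (π.isClosedMap _ (Y.basicOpen s).isOpen.isClosed_compl).isOpen_compl⟩
  have hle : π ⁻¹ᵁ W' ≤ Y.basicOpen s := fun y hy => not_not.1 fun hn => hy.2 ⟨y, hn, rfl⟩
  refine ⟨W', inf_le_left, ⟨hbW, ?_⟩, ?_⟩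
  · rintro ⟨y, hy, hyb⟩
    have hyc : IsClosed ({y} : Set Y) := isClosed_of_over π hb hyb
    exact h y hyb hyc (((val_eq_zero_iff (π ≫ f) hyc _ _ s).2 hy))
  · exact isUnit_resR (π.preimage_mono inf_le_left) s hle

end Val

/-- A birational finite cover with a finite bad set. -/
structure IsSetup {X Y : Scheme.{u}} (π : Y ⟶ X) (B : Set X) : Prop where
  finite : B.Finite
  closed : ∀ b ∈ B, IsClosed ({b} : Set X)
  inj : ∀ W : X.Opens, Function.Injective (π.app W)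
  iso : ∀ W : X.Opens, (∀ b ∈ B, b ∉ W) → IsIso (π ∣_ W)
  surjPt : Function.Surjective (fun y : Y => π y)

theorem IsSetup.surj {X Y : Scheme.{u}} {π : Y ⟶ X} {B : Set X} (hπ : IsSetup π B) (W : X.Opens)
    (hW : ∀ b ∈ B, b ∉ W) : Function.Surjective (π.app W) := by
  haveI := hπ.iso W hW
  exact (PicNormLib.app_bijective_of_isIso_restrict π W).2

section Near

variable {k : Type u} [Field k] [IsAlgClosed k] {X Y : Scheme.{u}} (f : X ⟶ Spec (CommRingCat.of k))
  [LocallyOfFiniteType f] (π : Y ⟶ X) [IsFinite π] {B : Set X} (hπ : IsSetup π B)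

/-- The conductor at a bad point contains a power of its ideal. -/
theorem exists_conductor [AlgebraicGeometry.IsNoetherian X] {W : X.Opens} {b : X} (hbB : b ∈ B) (hbW : b ∈ W)
    (hπ : IsSetup π B) :
    ∃ (V : X.Opens) (_ : V ≤ W) (hV : IsAffineOpen V) (hbV : b ∈ V) (N : ℕ),
      ∀ s : Γ(Y, π ⁻¹ᵁ V),
        s ∈ ((hV.primeIdealOf ⟨b, hbV⟩).asIdeal ^ N).map (π.app V).hom → ∃ r, π.app V r = s := by
  have hcl : IsClosed (B \ {b}) := by
    rw [← Set.biUnion_of_singleton (B \ {b})]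
    exact (hπ.finite.subset Set.sdiff_subset).isClosed_biUnion fun c hc => hπ.closed c hc.1
  obtain ⟨_, ⟨V, hV, rfl⟩, hbV, hVW⟩ := X.isBasis_affineOpens.exists_subset_of_mem_open
    (show b ∈ (W ⊓ ⟨(B \ {b})ᶜ, hcl.isOpen_compl⟩ : X.Opens) from ⟨hbW, fun h => h.2 rfl⟩)
    (W ⊓ ⟨(B \ {b})ᶜ, hcl.isOpen_compl⟩ : X.Opens).2
  have hVa : IsAffineOpen V := hV
  let p := (hVa.primeIdealOf ⟨b, hbV⟩).asIdeal
  letI : Algebra Γ(X, V) Γ(Y, π ⁻¹ᵁ V) := (π.app V).hom.toAlgebra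
  haveI : Module.Finite Γ(X, V) Γ(Y, π ⁻¹ᵁ V) := IsFinite.finite_app π V hVa
  haveI : IsNoetherianRing Γ(X, V) := IsLocallyNoetherian.component_noetherian ⟨V, hVa⟩
  have hV' : IsAffineOpen (π ⁻¹ᵁ V) := hVa.preimage π
  -- one element, one denominator
  have h1 : ∀ (g : Γ(X, V)) (s : Γ(Y, π ⁻¹ᵁ V)), g ∈ p → ∃ (m : ℕ) (r : Γ(X, V)), π.app V (g ^ m) * s = π.app V r := by
    intro g s hg
    have hb : ∀ c ∈ B, c ∉ X.basicOpen g := fun c hc hcg => by
      by_cases hcb : c = b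
      · subst hcb
        exact (mem_iff_evaluation_eq_zero hVa hbV g).2 hg |> fun h0 =>
          (Scheme.evaluation_eq_zero_iff_notMem_basicOpen X c hbV g).1 h0 hcg
      · exact (hVW (X.basicOpen_le g hcg)).2 ⟨hc, hcb⟩
    obtain ⟨t, ht⟩ := hπ.surj _ hb (Y.presheaf.map (homOfLE (π.preimage_mono (X.basicOpen_le g))).op s)
    haveI := hVa.isLocalization_basicOpen g
    obtain ⟨⟨r, ⟨_, m, rfl⟩⟩, hr⟩ := IsLocalization.surj (Submonoid.powers g) t
    letI : Algebra Γ(Y, π ⁻¹ᵁ V) Γ(Y, π ⁻¹ᵁ X.basicOpen g) :=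
      (Y.presheaf.map (homOfLE (π.preimage_mono (X.basicOpen_le g))).op).hom.toAlgebra
    haveI : IsLocalization.Away (π.app V g) Γ(Y, π ⁻¹ᵁ X.basicOpen g) :=
      hV'.isLocalization_of_eq_basicOpen _ (homOfLE (π.preimage_mono (X.basicOpen_le g))) (Scheme.preimage_basicOpen π g)
    have hnat : ∀ z : Γ(X, V), π.app (X.basicOpen g) (algebraMap Γ(X, V) Γ(X, X.basicOpen g) z) =
        algebraMap Γ(Y, π ⁻¹ᵁ V) Γ(Y, π ⁻¹ᵁ X.basicOpen g) (π.app V z) := fun z =>
      ConcreteCategory.congr_hom (π.naturality (homOfLE (X.basicOpen_le g)).op) z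
    have h := congrArg (π.app (X.basicOpen g)) (show t * algebraMap Γ(X, V) Γ(X, X.basicOpen g) (g ^ m) = algebraMap _ _ r from hr)
    rw [map_mul, hnat, hnat, ht] at h
    change algebraMap Γ(Y, π ⁻¹ᵁ V) _ s * algebraMap _ _ (π.app V (g ^ m)) = algebraMap _ _ (π.app V r) at h
    rw [← map_mul] at h
    obtain ⟨⟨_, j, rfl⟩, hj⟩ := IsLocalization.exists_of_eq (M := Submonoid.powers (π.app V g)) h
    refine ⟨j + m, g ^ j * r, ?_⟩
    rw [pow_add, map_mul, map_mul, mul_assoc, mul_comm (π.app V (g ^ m)) s, map_pow (π.app V).hom g j]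
    exact hj
  -- all elements
  let J : Ideal Γ(X, V) :=
    (LinearMap.range (Algebra.linearMap Γ(X, V) Γ(Y, π ⁻¹ᵁ V))).colon (Set.univ : Set Γ(Y, π ⁻¹ᵁ V))
  have hJ : ∀ g : Γ(X, V), g ∈ J ↔ ∀ s, ∃ r, π.app V r = π.app V g * s := fun g => by
    simp only [J, Submodule.mem_colon, Set.mem_univ, true_implies, LinearMap.mem_range]
    exact forall_congr' fun s => exists_congr fun r => by rw [Algebra.smul_def]; rfl
  obtain ⟨gs, hgs⟩ := (Module.Finite.fg_top : (⊤ : Submodule Γ(X, V) Γ(Y, π ⁻¹ᵁ V)).FG)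
  have hrad : p ≤ J.radical := fun g hg => by
    choose m r hr using fun s => h1 g s hg
    refine ⟨gs.sup m, (hJ _).2 fun s => ?_⟩
    have hs : s ∈ Submodule.span Γ(X, V) (gs : Set Γ(Y, π ⁻¹ᵁ V)) := hgs ▸ Submodule.mem_top
    induction hs using Submodule.span_induction with
    | mem z hz =>
      obtain ⟨d, hd⟩ := Nat.exists_eq_add_of_le (Finset.le_sup (f := m) hz)
      exact ⟨g ^ d * r z, by rw [map_mul, ← hr z, ← mul_assoc, ← map_mul, ← pow_add, hd, add_comm]⟩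
    | zero => exact ⟨0, by rw [mul_zero, map_zero]⟩
    | add z w _ _ hz hw =>
      obtain ⟨r₁, hr₁⟩ := hz
      obtain ⟨r₂, hr₂⟩ := hw
      exact ⟨r₁ + r₂, by rw [map_add, hr₁, hr₂, mul_add]⟩
    | smul c z _ hz =>
      obtain ⟨r₁, hr₁⟩ := hz
      exact ⟨c * r₁, by rw [map_mul, hr₁, Algebra.smul_def, RingHom.algebraMap_toAlgebra, mul_left_comm]⟩
  obtain ⟨N, hN⟩ := Ideal.exists_pow_le_of_le_radical_of_fg hrad (IsNoetherian.noetherian p)
  refine ⟨V, fun z hz => (hVW hz).1, hVa, hbV, N, fun s hs => ?_⟩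
  have hle : ((p ^ N).map (π.app V).hom : Set Γ(Y, π ⁻¹ᵁ V)) ⊆ Set.range (π.app V) := by
    intro z hz
    refine Submodule.span_induction (p := fun z _ => ∀ c, ∃ r, π.app V r = c * z) ?_ ?_ ?_ ?_ hz 1 |>.imp
      fun r hr => by rw [hr, one_mul]
    · rintro _ ⟨g, hg, rfl⟩ c
      obtain ⟨r, hr⟩ := (hJ g).1 (hN hg) c
      exact ⟨r, hr.trans (mul_comm _ _)⟩
    · exact fun c => ⟨0, by rw [map_zero, mul_zero]⟩
    · intro a a' _ _ ha ha' c
      obtain ⟨r, hr⟩ := ha c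
      obtain ⟨r', hr'⟩ := ha' c
      exact ⟨r + r', by rw [map_add, hr, hr', mul_add]⟩
    · intro d a _ ha c
      obtain ⟨r, hr⟩ := ha (c * d)
      exact ⟨r, by rw [hr, smul_eq_mul, mul_assoc]⟩
  exact hle hs

variable [LocallyOfFiniteType (π ≫ f)]

/-- A function vanishing at all points over `b` is nilpotent modulo the ideal of `b`. -/
theorem isNilpotent_mod {V : X.Opens} (hV : IsAffineOpen V) {b : X} (hb : IsClosed ({b} : Set X)) (hbV : b ∈ V)
    (N : ℕ) (s : Γ(Y, π ⁻¹ᵁ V))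
    (h : ∀ (y : Y) (hy : π y = b) (hyc : IsClosed ({y} : Set Y)),
      val (π ≫ f) hyc (π ⁻¹ᵁ V) (show π y ∈ V from hy ▸ hbV) s = 0) :
    IsNilpotent (Ideal.Quotient.mk (((hV.primeIdealOf ⟨b, hbV⟩).asIdeal ^ N).map (π.app V).hom) s) := by
  have hV' : IsAffineOpen (π ⁻¹ᵁ V) := hV.preimage π
  haveI := hV.primeIdealOf_isMaximal_of_isClosed ⟨b, hbV⟩ hb
  rw [← mem_nilradical, nilradical_eq_sInf, Submodule.mem_sInf]
  intro Q hQ
  haveI : Ideal.IsPrime Q := hQ
  let P : PrimeSpectrum Γ(Y, π ⁻¹ᵁ V) := ⟨Ideal.comap (Ideal.Quotient.mk _) Q, Ideal.IsPrime.comap _⟩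
  have hp : (hV.primeIdealOf ⟨b, hbV⟩).asIdeal ≤ P.asIdeal.comap (π.app V).hom := fun g hg => by
    have hN : π.app V (g ^ N) ∈ P.asIdeal := by
      show Ideal.Quotient.mk _ (π.app V (g ^ N)) ∈ Q
      rw [Ideal.Quotient.eq_zero_iff_mem.2 (Ideal.mem_map_of_mem _ (Ideal.pow_mem_pow hg N))]
      exact Q.zero_mem
    rw [map_pow] at hN
    exact P.2.mem_of_pow_mem N hN
  have hpe : (hV.primeIdealOf ⟨b, hbV⟩).asIdeal = P.asIdeal.comap (π.app V).hom :=
    Ideal.IsMaximal.eq_of_le inferInstance (Ideal.IsPrime.comap _).ne_top hp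
  let y : Y := hV'.fromSpec P
  have hyV : y ∈ π ⁻¹ᵁ V := by
    have := Set.mem_range_self (f := hV'.fromSpec) P
    rwa [hV'.range_fromSpec] at this
  have hPy : hV'.primeIdealOf ⟨y, hyV⟩ = P :=
    hV'.fromSpec.isOpenEmbedding.injective (hV'.fromSpec_primeIdealOf ⟨y, hyV⟩)
  have hyb : π y = b := by
    have h1 := hV.comap_primeIdealOf_appLE V (π ⁻¹ᵁ V) hV' le_rfl hyV
    have h2 : (hV.primeIdealOf ⟨π y, hyV⟩) = hV.primeIdealOf ⟨b, hbV⟩ := by
      refine PrimeSpectrum.ext ?_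
      rw [hpe, ← congrArg PrimeSpectrum.asIdeal h1, hPy, Scheme.Hom.app_eq_appLE]
      rfl
    have h3 := congrArg hV.fromSpec h2
    rwa [hV.fromSpec_primeIdealOf, hV.fromSpec_primeIdealOf] at h3
  have hyc : IsClosed ({y} : Set Y) := isClosed_of_over π hb hyb
  have h0 := (map_eq_zero_iff _ (RingHom.injective ((residueFieldIsoBase (π ≫ f) y hyc).hom.hom))).1 (h y hyb hyc)
  rw [mem_iff_evaluation_eq_zero hV' hyV s, hPy] at h0
  exact h0

/-- The value at a point over `b`. -/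
noncomputable def valOver {b : X} (hb : IsClosed ({b} : Set X)) {W : X.Opens} (hbW : b ∈ W) (y : {y : Y // π y = b}) :
    Γ(Y, π ⁻¹ᵁ W) →+* k :=
  val (π ≫ f) (isClosed_of_over π hb y.2) (π ⁻¹ᵁ W) (show π y.1 ∈ W from y.2.symm ▸ hbW)

theorem valOver_res {b : X} (hb : IsClosed ({b} : Set X)) {W W' : X.Opens} (h : W' ≤ W) (hbW : b ∈ W')
    (y : {y : Y // π y = b}) (a : Γ(Y, π ⁻¹ᵁ W)) :
    valOver f π hb hbW y (resR (π.preimage_mono h) a) = valOver f π hb (h hbW) y a :=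
  val_res (π ≫ f) _ _ _ a

theorem valOver_app {b : X} (hb : IsClosed ({b} : Set X)) {W : X.Opens} (hbW : b ∈ W) (y : {y : Y // π y = b})
    (a : Γ(X, W)) : valOver f π hb hbW y (π.app W a) = val f hb W hbW a := by
  obtain ⟨y, rfl⟩ := y
  exact val_comp f π _ hb W hbW a

theorem val_app_zero {V : X.Opens} (hV : IsAffineOpen V) {b : X} (hb : IsClosed ({b} : Set X)) (hbV : b ∈ V)
    (a : Γ(X, V)) : val f hb V hbV a = 0 ↔ a ∈ (hV.primeIdealOf ⟨b, hbV⟩).asIdeal := by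
  rw [← mem_iff_evaluation_eq_zero hV hbV a]
  show (residueFieldIsoBase f b hb).hom.hom (X.evaluation V b hbV a) = 0 ↔ _
  exact map_eq_zero_iff _ ((residueFieldIsoBase f b hb).hom.hom).injective

theorem val_surjective {V : X.Opens} (hV : IsAffineOpen V) {b : X} (hb : IsClosed ({b} : Set X)) (hbV : b ∈ V) :
    Function.Surjective (val f hb V hbV) := by
  haveI := hV.primeIdealOf_isMaximal_of_isClosed ⟨b, hbV⟩ hb
  intro c
  obtain ⟨a, a₀, ha, ha₀⟩ := exists_evaluation_frac hV hbV ((residueFieldIsoBase f b hb).inv c)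
  obtain ⟨a', i, hi, h⟩ := Ideal.IsMaximal.exists_inv (I := (hV.primeIdealOf ⟨b, hbV⟩).asIdeal) inferInstance
    (fun hh => ha ((mem_iff_evaluation_eq_zero hV hbV a).2 hh))
  refine ⟨a' * a₀, ?_⟩
  have h1 : val f hb V hbV a' * val f hb V hbV a = 1 := by
    have := congrArg (val f hb V hbV) h
    rwa [map_add, map_mul, (val_app_zero f hV hb hbV i).2 hi, add_zero, map_one] at this
  have h2 : val f hb V hbV a * c = val f hb V hbV a₀ := by
    have := congrArg (residueFieldIsoBase f b hb).hom.hom ha₀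
    rw [map_mul] at this
    have e : (residueFieldIsoBase f b hb).hom.hom ((residueFieldIsoBase f b hb).inv c) = c :=
      congr($((residueFieldIsoBase f b hb).inv_hom_id) c)
    rw [e] at this
    exact this
  rw [map_mul, ← h2, ← mul_assoc, h1, one_mul]

include hπ in
/-- An element with equal values over `b` whose power descends, descends near `b`. -/
theorem descends_of_val [AlgebraicGeometry.IsNoetherian X] {b : X} (hbB : b ∈ B) (hb : IsClosed ({b} : Set X))
    {W : X.Opens} (hbW : b ∈ W) {n : ℕ} (hn : 0 < n) (hnk : IsUnit (n : k)) (r : Γ(Y, π ⁻¹ᵁ W)) (hr : IsUnit r)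
    (w : Γ(X, W)) (hw : r ^ n = π.app W w) (α : k) (hα : ∀ y, valOver f π hb hbW y r = α) :
    ∃ (W' : X.Opens) (hW' : W' ≤ W) (_ : b ∈ W') (c : Γ(X, W')),
      π.app W' c = resR (π.preimage_mono hW') r := by
  obtain ⟨V, hVW, hV, hbV, N, hN⟩ := exists_conductor π hbB hbW hπ
  let p := (hV.primeIdealOf ⟨b, hbV⟩).asIdeal
  haveI : p.IsMaximal := hV.primeIdealOf_isMaximal_of_isClosed ⟨b, hbV⟩ hb
  let I := (p ^ (N + 1)).map (π.app V).hom
  have hI : ∀ s ∈ I, ∃ c, π.app V c = s := fun s hs =>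
    hN s (Ideal.map_mono (Ideal.pow_le_pow_right N.le_succ) hs)
  let x := resR (π.preimage_mono hVW) r
  let w' := resR hVW w
  have hxw : x ^ n = π.app V w' := by
    rw [← map_pow, hw]
    exact (PicTorsThick.app_resR π hVW w).symm
  have hxv : ∀ y, valOver f π hb hbV y x = α := fun y => (valOver_res f π hb hVW hbV y r).trans (hα y)
  obtain ⟨y₀, hy₀⟩ := hπ.surjPt b
  have hw0 : val f hb V hbV w' = α ^ n := by
    rw [← valOver_app f π hb hbV ⟨y₀, hy₀⟩, ← hxw, map_pow, hxv]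
  have hα0 : α ≠ 0 := (hxv ⟨y₀, hy₀⟩) ▸ ((hr.map _).map (valOver f π hb hbV ⟨y₀, hy₀⟩)).ne_zero
  let φ : Γ(X, V) ⧸ p ^ (N + 1) →+* k := Ideal.Quotient.lift _ (val f hb V hbV) fun a ha =>
    (val_app_zero f hV hb hbV a).2 (Ideal.pow_le_self N.succ_ne_zero ha)
  have hnil : ∀ a, φ a = 0 → IsNilpotent a := fun a ha => by
    obtain ⟨a, rfl⟩ := Ideal.Quotient.mk_surjective a
    refine ⟨N + 1, ?_⟩
    rw [← map_pow, Ideal.Quotient.eq_zero_iff_mem]
    exact Ideal.pow_mem_pow ((val_app_zero f hV hb hbV a).1 ha) _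
  have hsurj : Function.Surjective φ := fun c =>
    let ⟨a, ha⟩ := val_surjective f hV hb hbV c
    ⟨Ideal.Quotient.mk _ a, ha⟩
  have hwu : IsUnit (Ideal.Quotient.mk (p ^ (N + 1)) w') :=
    PicTorsThick.isUnit_of_map φ hsurj hnil (isUnit_iff_ne_zero.2 (by
      show val f hb V hbV w' ≠ 0
      rw [hw0]; exact pow_ne_zero _ hα0))
  obtain ⟨a, ⟨hφa, han⟩, -⟩ := PicTorsThick.existsUnique_root_ring φ hsurj hnil hn hnk _ hwu α
    (show α ^ n = val f hb V hbV w' from hw0.symm)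
  obtain ⟨a, rfl⟩ := Ideal.Quotient.mk_surjective a
  let mS : Γ(X, V) ⧸ p ^ (N + 1) →+* Γ(Y, π ⁻¹ᵁ V) ⧸ I := Ideal.quotientMap I (π.app V).hom Ideal.le_comap_map
  have heq : Ideal.Quotient.mk I x = Ideal.Quotient.mk I (π.app V a) := by
    refine PicTorsThick.root_unique (n := n) ?_ ((hr.map _).map _) ?_ ?_
    · have := (PicTorsThick.isUnit_of_map φ hsurj hnil (a := ((n : ℕ) : Γ(X, V) ⧸ p ^ (N + 1))) (by rwa [map_natCast])).map mS
      rwa [map_natCast] at this
    · rw [← map_pow, hxw]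
      show mS (Ideal.Quotient.mk _ w') = _
      rw [← han, map_pow]
      rfl
    · rw [← map_sub]
      refine isNilpotent_mod f π hV hb hbV (N + 1) _ fun y hy hyc => ?_
      show valOver f π hb hbV ⟨y, hy⟩ (x - π.app V a) = 0
      rw [map_sub, hxv, valOver_app, show val f hb V hbV a = α from hφa, sub_self]
  obtain ⟨c, hc⟩ := hI _ (Ideal.Quotient.eq.1 heq)
  exact ⟨V, hVW, hbV, a + c, by rw [map_add, hc, add_sub_cancel]⟩

include hπ in
/-- Prescribed values over `b` of an `n`-th root up to functions on the base. -/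
theorem exists_root [AlgebraicGeometry.IsNoetherian X] {b : X} (hbB : b ∈ B) (hb : IsClosed ({b} : Set X))
    {W : X.Opens} (hbW : b ∈ W) {n : ℕ} (hn : 0 < n) (hnk : IsUnit (n : k)) (u : Γ(Y, π ⁻¹ᵁ W)) (hu : IsUnit u)
    (v : {y : Y // π y = b} → k) (hv : ∀ y, v y ^ n * valOver f π hb hbW y u = 1) :
    ∃ (W' : X.Opens) (hW' : W' ≤ W) (hbW' : b ∈ W') (s : Γ(Y, π ⁻¹ᵁ W')) (w : Γ(X, W')),
      IsUnit s ∧ IsUnit w ∧ s ^ n * resR (π.preimage_mono hW') u = π.app W' w ∧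
        ∀ y, valOver f π hb hbW' y s = v y := by
  obtain ⟨V, hVW, hV, hbV, N, hN⟩ := exists_conductor π hbB hbW hπ
  have hV' : IsAffineOpen (π ⁻¹ᵁ V) := hV.preimage π
  let p := (hV.primeIdealOf ⟨b, hbV⟩).asIdeal
  let I := (p ^ (N + 1)).map (π.app V).hom
  have hI : ∀ s ∈ I, ∃ c, π.app V c = s := fun s hs =>
    hN s (Ideal.map_mono (Ideal.pow_le_pow_right N.le_succ) hs)
  have hIz : ∀ y, ∀ s ∈ I, valOver f π hb hbV y s = 0 := fun y s hs => by
    have hle : I ≤ RingHom.ker (valOver f π hb hbV y) := Ideal.map_le_iff_le_comap.2 fun g hg => by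
      show valOver f π hb hbV y (π.app V g) = 0
      rw [valOver_app]
      exact (val_app_zero f hV hb hbV g).2 (Ideal.pow_le_self N.succ_ne_zero hg)
    exact hle hs
  let φ : Γ(Y, π ⁻¹ᵁ V) ⧸ I →+* ({y : Y // π y = b} → k) :=
    Ideal.Quotient.lift I (Pi.ringHom fun y => valOver f π hb hbV y) fun s hs => funext fun y => hIz y s hs
  have hnil : ∀ s, φ s = 0 → IsNilpotent s := fun s hs => by
    obtain ⟨s, rfl⟩ := Ideal.Quotient.mk_surjective s
    exact isNilpotent_mod f π hV hb hbV (N + 1) s fun y hy hyc => congrFun hs ⟨y, hy⟩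
  haveI : Finite {y : Y // π y = b} := (π.finite_preimage_singleton b).to_subtype
  have hyV : ∀ y : {y : Y // π y = b}, y.1 ∈ π ⁻¹ᵁ V := fun y => show π y.1 ∈ V from y.2.symm ▸ hbV
  have hsurj : Function.Surjective φ := fun c => by
    choose a ha using fun y => val_surjective (π ≫ f) hV' (isClosed_of_over π hb y.2) (hyV y) (c y)
    obtain ⟨s, hs⟩ := Ideal.exists_forall_sub_mem_ideal
      (I := fun y : {y : Y // π y = b} => (hV'.primeIdealOf ⟨y.1, hyV y⟩).asIdeal) (fun y y' hne => by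
        haveI := hV'.primeIdealOf_isMaximal_of_isClosed ⟨y.1, hyV y⟩ (isClosed_of_over π hb y.2)
        haveI := hV'.primeIdealOf_isMaximal_of_isClosed ⟨y'.1, hyV y'⟩ (isClosed_of_over π hb y'.2)
        refine Ideal.isCoprime_iff_sup_eq.2 (Ideal.IsMaximal.coprime_of_ne inferInstance inferInstance fun h => hne ?_)
        have h2 := congrArg hV'.fromSpec (PrimeSpectrum.ext h)
        rw [hV'.fromSpec_primeIdealOf, hV'.fromSpec_primeIdealOf] at h2
        exact Subtype.ext h2) a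
    refine ⟨Ideal.Quotient.mk I s, funext fun y => ?_⟩
    have h1 := (val_app_zero (π ≫ f) hV' (isClosed_of_over π hb y.2) (hyV y) _).2 (hs y)
    rw [map_sub, sub_eq_zero, ha] at h1
    exact h1
  let u' := resR (π.preimage_mono hVW) u
  have hu' : IsUnit u' := hu.map _
  have hval : ∀ y, valOver f π hb hbV y u' = valOver f π hb hbW y u := fun y => valOver_res f π hb hVW hbV y u
  have hnk' : IsUnit ((n : ℕ) : {y : Y // π y = b} → k) := Pi.isUnit_iff.2 fun _ => by simpa using hnk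
  obtain ⟨sq, ⟨hsv, hsn⟩, -⟩ := PicTorsThick.existsUnique_root_ring φ hsurj hnil hn hnk'
    (Ideal.Quotient.mk I (hu'.unit⁻¹ : Γ(Y, π ⁻¹ᵁ V)ˣ).1) ((Units.isUnit _).map _) v (funext fun y => by
      show v y ^ n = valOver f π hb hbV y (hu'.unit⁻¹ : Γ(Y, π ⁻¹ᵁ V)ˣ).1
      have h1 : valOver f π hb hbV y (hu'.unit⁻¹ : Γ(Y, π ⁻¹ᵁ V)ˣ).1 * valOver f π hb hbW y u = 1 := by
        rw [← hval, ← map_mul, IsUnit.val_inv_mul, map_one]
      exact mul_right_cancel₀ (right_ne_zero_of_mul_eq_one h1) ((hv y).trans h1.symm))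
  obtain ⟨s, rfl⟩ := Ideal.Quotient.mk_surjective sq
  have hsy : ∀ y, valOver f π hb hbV y s = v y := fun y => congrFun hsv y
  obtain ⟨c, hc⟩ := hI (s ^ n * u' - 1) (Ideal.Quotient.eq.1 (by
    rw [map_mul, map_pow, hsn, ← map_mul, IsUnit.val_inv_mul]))
  obtain ⟨y₀, hy₀⟩ := hπ.surjPt b
  have hcv : val f hb V hbV c = 0 := by
    rw [← valOver_app f π hb hbV ⟨y₀, hy₀⟩, hc]
    refine hIz _ _ (Ideal.Quotient.eq.1 (by
      rw [map_mul, map_pow, hsn, ← map_mul, IsUnit.val_inv_mul]))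
  have hne : ∀ (y : Y) (hy : π y = b) (hyc : IsClosed ({y} : Set Y)),
      val (π ≫ f) hyc (π ⁻¹ᵁ V) (show π y ∈ V from hy ▸ hbV) s ≠ 0 := fun y hy hyc => by
    show valOver f π hb hbV ⟨y, hy⟩ s ≠ 0
    rw [hsy]
    intro h0
    have := hv ⟨y, hy⟩
    rw [h0, zero_pow hn.ne', zero_mul] at this
    exact zero_ne_one this
  obtain ⟨W₁, hW₁, hbW₁, hsu⟩ := isUnit_near f π hb hbV s hne
  let W' : X.Opens := W₁ ⊓ X.basicOpen (1 + c)
  have hbW' : b ∈ W' := ⟨hbW₁, by
    by_contra hnb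
    have h0 := (val_eq_zero_iff f hb V hbV (1 + c)).2 hnb
    rw [map_add, map_one, hcv, add_zero] at h0
    exact one_ne_zero h0⟩
  have hle : W' ≤ V := inf_le_left.trans hW₁
  refine ⟨W', hle.trans hVW, hbW', resR (π.preimage_mono hle) s, resR hle (1 + c), ?_, isUnit_resR hle _ inf_le_right, ?_,
    fun y => (valOver_res f π hb hle hbW' y s).trans (hsy y)⟩
  · have := hsu.map (resR (π.preimage_mono (inf_le_left : W' ≤ W₁)))
    rwa [resR_resR] at this
  · rw [PicTorsThick.app_resR π hle, map_add, map_one, hc, add_sub_cancel, map_mul, map_pow, resR_resR]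

end Near

end Groth.Agent.PicTors18
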