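import Groth.Agent.PicTors18.Branches
import Groth.Agent.GenusLe.Birat
import Groth.Agent.PnCoh.Chow.Basic
import Groth.Agent.BMLib.PtBij
import Groth.Agent.GenusLe.Finite
import Mathlib.AlgebraicGeometry.Morphisms.Affine

/-! A normal cover which is birational componentwise is an isomorphism off finitely many points. -/

set_option autoImplicit false
set_option linter.style.haveILetI false
set_option linter.unusedSectionVars false
set_option backward.isDefEq.respectTransparency false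
set_option backward.isDefEq.respectTransparency.types false
set_option maxHeartbeats 1000000

universe u

open CategoryTheory AlgebraicGeometry TopologicalSpace

namespace Groth.Agent.PicTors18

/-- A reduced ring with at most one minimal prime is a domain. -/
theorem isDomain_of_unique_minimal {R : Type u} [CommRing R] [IsReduced R] [Nontrivial R]
    (h : ∀ p ∈ minimalPrimes R, ∀ q ∈ minimalPrimes R, p = q) : IsDomain R := by
  obtain ⟨p, hp⟩ : (minimalPrimes R).Nonempty := by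
    obtain ⟨m, hm⟩ := Ideal.exists_maximal R
    obtain ⟨p, hp, -⟩ := Ideal.exists_minimalPrimes_le (I := (⊥ : Ideal R)) (J := m) bot_le
    exact ⟨p, hp⟩
  have hbot : p = ⊥ := by
    have h1 : nilradical R = ⊥ := nilradical_eq_zero R
    rw [← h1, nilradical, ← Ideal.sInf_minimalPrimes]
    refine le_antisymm (le_sInf fun q hq => (h p hp q hq).le) (sInf_le hp)
  haveI : (⊥ : Ideal R).IsPrime := hbot ▸ hp.1.1
  exact IsDomain.of_bot_isPrime R

variable {X Y : Scheme.{u}} (π : Y ⟶ X) [IsFinite π] (hY : Pi1.IsNormalScheme Y)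
  (hbij : Set.BijOn (fun y : Y => π y) {y : Y | closure ({y} : Set Y) ∈ irreducibleComponents (Y : Type u)}
    {x : X | closure ({x} : Set X) ∈ irreducibleComponents (X : Type u)})
  (hres : ∀ y : Y, closure ({y} : Set Y) ∈ irreducibleComponents (Y : Type u) → Function.Bijective (π.residueFieldMap y).hom)

include hbij in
/-- The map is dominant. -/
theorem isDominant : IsDominant π := by
  refine ⟨fun x => ?_⟩
  obtain ⟨η, hη⟩ := QuasiSober.sober (isIrreducible_irreducibleComponent (x := x)) (isClosed_irreducibleComponent (x := x))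
  obtain ⟨y, -, hy⟩ := hbij.surjOn (show η ∈ {x : X | closure ({x} : Set X) ∈ irreducibleComponents (X : Type u)} from by
    show closure ({η} : Set X) ∈ irreducibleComponents (X : Type u)
    rw [hη.def]; exact irreducibleComponent_mem_irreducibleComponents x)
  have h1 : x ∈ closure ({η} : Set X) := by rw [hη.def]; exact mem_irreducibleComponent
  exact closure_mono (Set.singleton_subset_iff.2 (show η ∈ Set.range π from ⟨y, hy⟩)) h1

include hY hbij hres in
/-- Near a generic point the map is an isomorphism. -/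
theorem exists_nhd_isIso [AlgebraicGeometry.IsReduced X] [AlgebraicGeometry.IsNoetherian X] (η : X)
    (hη : closure ({η} : Set X) ∈ irreducibleComponents (X : Type u)) :
    ∃ W : X.Opens, η ∈ W ∧ IsIso (π ∣_ W) := by
  haveI := isDominant π hbij
  haveI : AlgebraicGeometry.IsReduced Y := by
    haveI : ∀ y : Y, _root_.IsReduced (Y.presheaf.stalk y) := fun y => by haveI := (hY y).1; infer_instance
    exact isReduced_of_isReduced_stalk Y
  let O : X.Opens := ⟨(⋃₀ (irreducibleComponents (X : Type u) \ {closure {η}}))ᶜ, by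
    rw [Set.sUnion_eq_biUnion]
    refine (Set.Finite.isClosed_biUnion ?_ fun Z hZ => isClosed_of_mem_irreducibleComponents Z hZ.1).isOpen_compl
    exact NoetherianSpace.finite_irreducibleComponents.subset Set.sdiff_subset⟩
  have hηO : η ∈ O := by
    rintro ⟨Z, ⟨hZ, hne⟩, hηZ⟩
    have hsub : closure {η} ⊆ Z := closure_minimal (Set.singleton_subset_iff.2 hηZ) (isClosed_of_mem_irreducibleComponents Z hZ)
    exact hne (le_antisymm (hη.2 hZ.1 hsub) hsub)
  obtain ⟨_, ⟨V, hV, rfl⟩, hηV, hVO⟩ := X.isBasis_affineOpens.exists_subset_of_mem_open hηO O.2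
  have hgen : ∀ x : X, x ∈ (V : Set X) → closure ({x} : Set X) ∈ irreducibleComponents (X : Type u) → x = η := fun x hx hxg => by
    by_contra hne
    refine hVO hx ⟨_, ⟨hxg, fun h => hne ?_⟩, subset_closure rfl⟩
    exact ((specializes_iff_mem_closure.2 (h ▸ subset_closure rfl : η ∈ closure ({x} : Set X))).antisymm
      (specializes_iff_mem_closure.2 ((h : closure ({x} : Set X) = closure {η}) ▸ subset_closure rfl))).eq
  obtain ⟨y₀, hy₀, hy₀η⟩ := hbij.surjOn hη
  have hV' : IsAffineOpen (π ⁻¹ᵁ V) := (show IsAffineOpen V from hV).preimage π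
  have hyV : y₀ ∈ π ⁻¹ᵁ V := by show π y₀ ∈ V; rw [show π y₀ = η from hy₀η]; exact hηV
  have hVaff : IsAffineOpen V := hV
  have hptX : ∀ p : PrimeSpectrum Γ(X, V), hVaff.fromSpec p ∈ (V : Set X) := fun p => by
    have := Set.mem_range_self (f := hVaff.fromSpec) p
    rwa [hVaff.range_fromSpec] at this
  have hptY : ∀ p : PrimeSpectrum Γ(Y, π ⁻¹ᵁ V), hV'.fromSpec p ∈ π ⁻¹ᵁ V := fun p => by
    have := Set.mem_range_self (f := hV'.fromSpec) p
    rwa [hV'.range_fromSpec] at this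
  haveI : Nonempty (V : Scheme.{u}) := ⟨⟨η, hηV⟩⟩
  haveI : Nonempty ((π ⁻¹ᵁ V : Y.Opens) : Scheme.{u}) := ⟨⟨y₀, hyV⟩⟩
  haveI : Nontrivial Γ(X, V) := ⟨⟨0, 1, fun h => (hVaff.primeIdealOf ⟨η, hηV⟩).2.ne_top ((Ideal.eq_top_iff_one _).2 (h ▸ Ideal.zero_mem _))⟩⟩
  haveI : Nontrivial Γ(Y, π ⁻¹ᵁ V) := ⟨⟨0, 1, fun h => (hV'.primeIdealOf ⟨y₀, hyV⟩).2.ne_top ((Ideal.eq_top_iff_one _).2 (h ▸ Ideal.zero_mem _))⟩⟩
  haveI : IsDomain Γ(X, V) := isDomain_of_unique_minimal fun p hp q hq => by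
    have e := (hgen _ (hptX ⟨p, hp.1.1⟩) ((minimalPrimes_iff hVaff ⟨p, hp.1.1⟩).1 hp)).trans
      (hgen _ (hptX ⟨q, hq.1.1⟩) ((minimalPrimes_iff hVaff ⟨q, hq.1.1⟩).1 hq)).symm
    exact congrArg PrimeSpectrum.asIdeal (hVaff.fromSpec.isOpenEmbedding.injective e)
  have hgenY : ∀ q : PrimeSpectrum Γ(Y, π ⁻¹ᵁ V), q.asIdeal ∈ minimalPrimes Γ(Y, π ⁻¹ᵁ V) → hV'.fromSpec q = y₀ :=
    fun q hq => by
      have h1 := (minimalPrimes_iff hV' q).1 hq
      exact hbij.injOn h1 hy₀ ((hgen _ (hptY q) (hbij.mapsTo h1)).trans hy₀η.symm)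
  haveI : IsDomain Γ(Y, π ⁻¹ᵁ V) := isDomain_of_unique_minimal fun p hp q hq => by
    have e := (hgenY ⟨p, hp.1.1⟩ hp).trans (hgenY ⟨q, hq.1.1⟩ hq).symm
    exact congrArg PrimeSpectrum.asIdeal (hV'.fromSpec.isOpenEmbedding.injective e)
  have hinj := fun W => PnCoh.Chow.app_injective_of_isDominant π W
  have hy₀min : (hV'.primeIdealOf ⟨y₀, hyV⟩).asIdeal = ⊥ := by
    have h1 : (hV'.primeIdealOf ⟨y₀, hyV⟩).asIdeal ∈ minimalPrimes Γ(Y, π ⁻¹ᵁ V) :=
      (minimalPrimes_iff hV' _).2 (by rw [hV'.fromSpec_primeIdealOf ⟨y₀, hyV⟩]; exact hy₀)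
    exact le_antisymm (h1.2 ⟨Ideal.isPrime_bot, bot_le⟩ bot_le) bot_le
  -- a common denominator
  letI : Algebra Γ(X, V) Γ(Y, π ⁻¹ᵁ V) := (π.app V).hom.toAlgebra
  haveI : Module.Finite Γ(X, V) Γ(Y, π ⁻¹ᵁ V) := IsFinite.finite_app π V hVaff
  have hfrac : ∀ s : Γ(Y, π ⁻¹ᵁ V), ∃ a a₀ : Γ(X, V), a ≠ 0 ∧ π.app V a * s = π.app V a₀ := fun s => by
    obtain ⟨c, hc⟩ := (hres y₀ hy₀).2 (Y.evaluation (π ⁻¹ᵁ V) y₀ hyV s)
    obtain ⟨a, a₀, ha, ha₀⟩ := exists_evaluation_frac hVaff hyV c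
    refine ⟨a, a₀, fun h => ha (by rw [h, map_zero]), ?_⟩
    have h' := congrArg (π.residueFieldMap y₀).hom ha₀
    rw [map_mul, Scheme.evaluation_naturality_apply π y₀ hyV, Scheme.evaluation_naturality_apply π y₀ hyV, hc, ← map_mul,
      ← sub_eq_zero, ← map_sub, mem_iff_evaluation_eq_zero hV' hyV, hy₀min, Ideal.mem_bot, sub_eq_zero] at h'
    exact h'
  choose a a₀ ha haa using hfrac
  obtain ⟨gs, hgs⟩ := (Module.Finite.fg_top : (⊤ : Submodule Γ(X, V) Γ(Y, π ⁻¹ᵁ V)).FG)
  let d := ∏ g ∈ gs, a g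
  have hd : d ≠ 0 := Finset.prod_ne_zero_iff.2 fun g _ => ha g
  have hmul : ∀ s : Γ(Y, π ⁻¹ᵁ V), ∃ r, π.app V d * s = π.app V r := fun s => by
    have hs : s ∈ Submodule.span Γ(X, V) (gs : Set Γ(Y, π ⁻¹ᵁ V)) := hgs ▸ Submodule.mem_top
    induction hs using Submodule.span_induction with
    | mem z hz =>
      obtain ⟨c, hc⟩ := Finset.dvd_prod_of_mem a hz
      exact ⟨c * a₀ z, by rw [show d = a z * c from hc, map_mul, map_mul, mul_comm (π.app V (a z)), mul_assoc, haa]⟩
    | zero => exact ⟨0, by rw [mul_zero, map_zero]⟩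
    | add z w _ _ hz hw =>
      obtain ⟨r, hr⟩ := hz
      obtain ⟨r', hr'⟩ := hw
      exact ⟨r + r', by rw [mul_add, hr, hr', map_add]⟩
    | smul c z _ hz =>
      obtain ⟨r, hr⟩ := hz
      exact ⟨c * r, by rw [Algebra.smul_def, RingHom.algebraMap_toAlgebra, mul_left_comm, hr, map_mul]⟩
  refine ⟨X.basicOpen d, ?_, ?_⟩
  · by_contra hne
    refine hd (eq_zero_of_basicOpen_eq_bot d (eq_bot_iff.2 fun x hx => ?_))
    have hxη : η ⤳ x := by
      obtain ⟨ξ, hξ⟩ := QuasiSober.sober (isIrreducible_irreducibleComponent (x := x)) isClosed_irreducibleComponent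
      have h1 : ξ ⤳ x := specializes_iff_mem_closure.2 (by rw [hξ.def]; exact mem_irreducibleComponent)
      have h2 := hgen ξ (h1.mem_open V.2 (X.basicOpen_le d hx)) (by rw [hξ.def]; exact irreducibleComponent_mem_irreducibleComponents x)
      rwa [h2] at h1
    exact hne (hxη.mem_open (X.basicOpen d).2 hx)
  · refine (isIso_morphismRestrict_iff_isIso_app π (hVaff.basicOpen d)).2 ((ConcreteCategory.isIso_iff_bijective _).2
      ⟨hinj _, fun t => ?_⟩)
    haveI := hVaff.isLocalization_basicOpen d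
    have hle : π ⁻¹ᵁ X.basicOpen d = Y.basicOpen (π.app V d) := Scheme.preimage_basicOpen π d
    have hres' : ∀ r : Γ(X, V), π.app (X.basicOpen d) (algebraMap Γ(X, V) Γ(X, X.basicOpen d) r) =
        Y.presheaf.map (homOfLE (π.preimage_mono (X.basicOpen_le d))).op (π.app V r) := fun r =>
      ConcreteCategory.congr_hom (π.naturality (homOfLE (X.basicOpen_le d)).op) r
    letI : Algebra Γ(Y, π ⁻¹ᵁ V) Γ(Y, π ⁻¹ᵁ X.basicOpen d) :=
      (Y.presheaf.map (homOfLE (π.preimage_mono (X.basicOpen_le d))).op).hom.toAlgebra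
    haveI : IsLocalization.Away (π.app V d) Γ(Y, π ⁻¹ᵁ X.basicOpen d) :=
      hV'.isLocalization_of_eq_basicOpen _ (homOfLE (π.preimage_mono (X.basicOpen_le d))) hle
    obtain ⟨⟨s, ⟨_, m, rfl⟩⟩, hs⟩ := IsLocalization.surj (Submonoid.powers (π.app V d)) t
    obtain ⟨r, hr⟩ := hmul s
    refine ⟨algebraMap _ _ r * IsLocalization.Away.invSelf d ^ (m + 1), ?_⟩
    have hu : IsUnit (π.app (X.basicOpen d) (algebraMap Γ(X, V) Γ(X, X.basicOpen d) d) ^ (m + 1)) :=
      ((IsLocalization.Away.algebraMap_isUnit d).map _).pow _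
    refine hu.mul_left_injective ?_
    dsimp only
    rw [map_mul, map_pow, mul_assoc, ← mul_pow, ← map_mul, mul_comm (IsLocalization.Away.invSelf d),
      IsLocalization.Away.mul_invSelf, map_one, one_pow, mul_one, hres', hres', ← hr, map_mul, pow_succ, ← mul_assoc]
    change _ * algebraMap Γ(Y, π ⁻¹ᵁ V) _ s = t * algebraMap _ _ (π.app V d) ^ m * algebraMap _ _ (π.app V d)
    rw [show t * algebraMap Γ(Y, π ⁻¹ᵁ V) _ (π.app V d) ^ m = algebraMap _ _ s by rw [← map_pow]; exact hs]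
    exact mul_comm _ _

include hY hbij hres in
/-- The map is an isomorphism off finitely many closed points. -/
theorem exists_bad_set [AlgebraicGeometry.IsReduced X] [AlgebraicGeometry.IsNoetherian X]
    (hdim : topologicalKrullDim X ≤ 1) :
    ∃ (B : Set X), B.Finite ∧ (∀ b ∈ B, IsClosed ({b} : Set X)) ∧
      ∀ W : X.Opens, (∀ b ∈ B, b ∉ W) → IsIso (π ∣_ W) := by
  choose W hηW hW using fun η : {η : X // closure ({η} : Set X) ∈ irreducibleComponents (X : Type u)} =>
    exists_nhd_isIso π hY hbij hres η.1 η.2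
  let U : X.Opens := ⨆ η, W η
  have hgenU : ∀ η, closure ({η} : Set X) ∈ irreducibleComponents (X : Type u) → η ∈ U := fun η hη =>
    Opens.mem_iSup.2 ⟨⟨η, hη⟩, hηW _⟩
  have hdense : Dense (U : Set X) := fun x => by
    obtain ⟨η, hη⟩ := QuasiSober.sober (isIrreducible_irreducibleComponent (x := x)) isClosed_irreducibleComponent
    have h1 : η ∈ (U : Set X) := hgenU η (by rw [hη.def]; exact irreducibleComponent_mem_irreducibleComponents x)
    exact closure_mono (Set.singleton_subset_iff.2 h1) (by rw [hη.def]; exact mem_irreducibleComponent)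
  have hcl : ∀ b ∈ (U : Set X)ᶜ, IsClosed ({b} : Set X) := fun b hb =>
    GenusLe.isClosed_of_notMem_dense hdim hdense hb
  refine ⟨(U : Set X)ᶜ, GenusLe.finite_of_isClosed_points U.isOpen.isClosed_compl hcl, hcl, fun V hV => ?_⟩
  rw [← MorphismProperty.isomorphisms.iff]
  refine (IsZariskiLocalAtTarget.iff_of_iSup_eq_top (P := MorphismProperty.isomorphisms Scheme.{u})
    (fun η => V.ι ⁻¹ᵁ W η) (top_le_iff.1 fun x _ => ?_)).2 fun η => ?_
  · have hxU : x.1 ∈ U := not_not.1 fun h => hV x.1 h x.2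
    obtain ⟨η, hη⟩ := Opens.mem_iSup.1 hxU
    exact Opens.mem_iSup.2 ⟨η, hη⟩
  · haveI := hW η
    haveI : IsIso (π ∣_ (V.ι ''ᵁ (V.ι ⁻¹ᵁ W η))) :=
      BMLib.isIso_restrict_of_le π (U := W η) (by
        rintro _ ⟨x, hx, rfl⟩
        exact hx)
    exact ((MorphismProperty.isomorphisms Scheme.{u}).arrow_mk_iso_iff
      (morphismRestrictRestrict π V (V.ι ⁻¹ᵁ W η))).2 (MorphismProperty.isomorphisms.infer_property _)

end Groth.Agent.PicTors18
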