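import Groth.Agent.BrnchLib.NormBij
import Groth.Agent.BrnchLib.EtNbhdAlg
import Groth.Agent.S0506
import Groth.Prelude.Def_Pi1

/-! Branches are the points of a birational normal cover. -/

set_option autoImplicit false
set_option linter.style.haveILetI false
set_option linter.unusedSectionVars false
set_option backward.isDefEq.respectTransparency false
set_option backward.isDefEq.respectTransparency.types false
set_option maxHeartbeats 1000000

universe u

open CategoryTheory AlgebraicGeometry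

namespace Groth.Agent.PicTors18

section Ring

variable {R S : Type u} [CommRing R] [CommRing S] [Algebra R S]

/-- The branches at a prime are the primes over it of an integral, normal, componentwise birational algebra. -/
theorem numBranches_eq_card [Algebra.IsIntegral R S] (p : Ideal R) [p.IsPrime]
    (hN : ∀ (q : Ideal S) [q.IsPrime], IsDomain (Localization.AtPrime q) ∧ IsIntegrallyClosed (Localization.AtPrime q))
    (hmin : Set.BijOn (Ideal.comap (algebraMap R S)) (minimalPrimes S) (minimalPrimes R))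
    (hbir : ∀ q ∈ minimalPrimes S, ∀ s : S, ∃ a a₀ : R, algebraMap R S a ∉ q ∧
      algebraMap R S a * s - algebraMap R S a₀ ∈ q) :
    Brnch.numBranches (Localization.AtPrime p) =
      ENat.card {q : PrimeSpectrum S // q.asIdeal.comap (algebraMap R S) = p} := by
  obtain ⟨H, _, _, _, _, hH⟩ := S0506.result (Localization.AtPrime p)
  rw [← BrnchLib.card_minimalPrimes_henselization (Localization.AtPrime p) H]
  let A := Localization.AtPrime p
  let M := Algebra.algebraMapSubmonoid S p.primeCompl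
  let B := Localization M
  let φ : A →+* B := IsLocalization.map B (algebraMap R S) (show p.primeCompl ≤ M.comap (algebraMap R S) from p.primeCompl.le_comap_map)
  letI : Algebra A B := φ.toAlgebra
  haveI : IsLocalization (Algebra.algebraMapSubmonoid S p.primeCompl) B := Localization.isLocalization
  haveI : Algebra.IsIntegral A B := ⟨fun x =>
    (isIntegral_localization (M := p.primeCompl) (Rₘ := A) (Sₘ := B) (S := S)) x⟩
  have hφ : ∀ r, algebraMap A B (algebraMap R A r) = algebraMap S B (algebraMap R S r) := fun r =>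
    IsLocalization.map_eq (S := A) (Q := B) (show p.primeCompl ≤ M.comap (algebraMap R S) from p.primeCompl.le_comap_map) r
  have hcm : ∀ P : Ideal B, (P.comap (algebraMap A B)).comap (algebraMap R A) =
      (P.comap (algebraMap S B)).comap (algebraMap R S) := fun P => by
    ext r
    simp only [Ideal.mem_comap, hφ]
  have hdisj : ∀ q : Ideal S, q.IsPrime → q.comap (algebraMap R S) ≤ p → Disjoint (M : Set S) q := fun q hq hle =>
    Set.disjoint_left.2 fun s hs hsq => by
      obtain ⟨r, hr, rfl⟩ := hs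
      exact hr (hle hsq)
  have hle : ∀ P : Ideal B, P.IsPrime → (P.comap (algebraMap S B)).comap (algebraMap R S) ≤ p := fun P hP r hr => by
    by_contra hrp
    exact hP.ne_top (Ideal.eq_top_of_isUnit_mem _ hr (IsLocalization.map_units B (⟨_, ⟨r, hrp, rfl⟩⟩ : M)))
  have hpm : ∀ P : Ideal B, P ∈ minimalPrimes B ↔ (P.comap (algebraMap S B) ∈ minimalPrimes S ∧ P.IsPrime) := by
    intro P
    constructor
    · intro hP
      haveI := hP.1.1
      refine ⟨⟨⟨Ideal.IsPrime.comap _, bot_le⟩, fun q ⟨hq, _⟩ hqle => ?_⟩, inferInstance⟩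
      have hd := hdisj q hq ((Ideal.comap_mono hqle).trans (hle P inferInstance))
      have h1 : q.map (algebraMap S B) ≤ P := Ideal.map_le_iff_le_comap.2 hqle
      haveI := IsLocalization.isPrime_of_isPrime_disjoint M B q hq hd
      have h2 := hP.2 ⟨this, bot_le⟩ h1
      intro x hx
      have h3 : algebraMap S B x ∈ q.map (algebraMap S B) := h2 hx
      rwa [← Ideal.mem_comap, ← Ideal.under_def, IsLocalization.under_map_of_isPrime_disjoint M B hq hd] at h3
    · rintro ⟨hP, hPp⟩
      refine ⟨⟨hPp, bot_le⟩, fun Q ⟨hQ, _⟩ hQle => ?_⟩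
      haveI := hQ
      have h := hP.2 ⟨Ideal.IsPrime.comap (algebraMap S B), bot_le⟩ (Ideal.comap_mono hQle)
      intro x hx
      obtain ⟨⟨s, m⟩, hsm⟩ := IsLocalization.surj M x
      have hs : algebraMap S B s ∈ P := hsm ▸ P.mul_mem_right _ hx
      have hs' : algebraMap S B s ∈ Q := h hs
      rw [← hsm] at hs'
      exact (Ideal.mul_unit_mem_iff_mem _ (IsLocalization.map_units B m)).1 hs'
  have hext : ∀ P Q : Ideal B, P.comap (algebraMap S B) = Q.comap (algebraMap S B) → P = Q := fun P Q h => by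
    rw [← IsLocalization.map_comap M B P, ← IsLocalization.map_comap M B Q]
    exact congrArg (Ideal.map (algebraMap S B)) h
  have hcA : ∀ p' q' : Ideal A, p'.comap (algebraMap R A) = q'.comap (algebraMap R A) → p' = q' := fun p' q' h => by
    rw [← IsLocalization.map_comap p.primeCompl A p', ← IsLocalization.map_comap p.primeCompl A q']
    exact congrArg (Ideal.map (algebraMap R A)) h
  have hAmin : ∀ p' : Ideal A, p' ∈ minimalPrimes A ↔ (p'.comap (algebraMap R A) ∈ minimalPrimes R ∧ p'.IsPrime) := by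
    intro p'
    constructor
    · intro hP
      haveI := hP.1.1
      refine ⟨⟨⟨Ideal.IsPrime.comap _, bot_le⟩, fun q ⟨hq, _⟩ hqle => ?_⟩, inferInstance⟩
      have hd : Disjoint (p.primeCompl : Set R) q := Set.disjoint_left.2 fun r hr hrq =>
        ‹p'.IsPrime›.ne_top (Ideal.eq_top_of_isUnit_mem _ (hqle hrq)
          (IsLocalization.map_units A (⟨r, hr⟩ : p.primeCompl)))
      have h1 : q.map (algebraMap R A) ≤ p' := Ideal.map_le_iff_le_comap.2 hqle
      haveI := IsLocalization.isPrime_of_isPrime_disjoint p.primeCompl A q hq hd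
      have h2 := hP.2 ⟨this, bot_le⟩ h1
      intro x hx
      have h3 : algebraMap R A x ∈ q.map (algebraMap R A) := h2 hx
      rwa [← Ideal.mem_comap, ← Ideal.under_def, IsLocalization.under_map_of_isPrime_disjoint p.primeCompl A hq hd] at h3
    · rintro ⟨hP, hPp⟩
      refine ⟨⟨hPp, bot_le⟩, fun Q ⟨hQ, _⟩ hQle => ?_⟩
      haveI := hQ
      have h := hP.2 ⟨Ideal.IsPrime.comap (algebraMap R A), bot_le⟩ (Ideal.comap_mono hQle)
      intro x hx
      obtain ⟨⟨s, m⟩, hsm⟩ := IsLocalization.surj p.primeCompl x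
      have hs : algebraMap R A s ∈ p' := hsm ▸ p'.mul_mem_right _ hx
      have hs' : algebraMap R A s ∈ Q := h hs
      rw [← hsm] at hs'
      exact (Ideal.mul_unit_mem_iff_mem _ (IsLocalization.map_units A m)).1 hs'
  obtain ⟨e⟩ := BrnchLib.nonempty_minimalPrimes_equiv_maximalSpectrum A H B
    (fun m _ => by
      let q := m.comap (algebraMap S B)
      haveI : q.IsPrime := Ideal.IsPrime.comap _
      haveI : IsLocalization.AtPrime (Localization.AtPrime m) q :=
        IsLocalization.isLocalization_isLocalization_atPrime_isLocalization M (Localization.AtPrime m) m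
      let ψ := (IsLocalization.algEquiv q.primeCompl (Localization.AtPrime q) (Localization.AtPrime m)).toRingEquiv
      haveI := (hN q).1
      haveI := (hN q).2
      exact ⟨ψ.symm.toMulEquiv.isDomain _, IsIntegrallyClosed.of_equiv (R := Localization.AtPrime q) ψ⟩)
    (by
      refine ⟨fun P hP => ?_, fun P hP Q hQ h => ?_, fun p' hp' => ?_⟩
      · obtain ⟨h1, h2⟩ := (hpm P).1 hP
        exact (hAmin _).2 ⟨(hcm P).symm ▸ hmin.mapsTo h1, Ideal.IsPrime.comap _⟩
      · refine hext P Q (hmin.injOn ((hpm P).1 hP).1 ((hpm Q).1 hQ).1 ?_)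
        rw [← hcm, ← hcm, h]
      · obtain ⟨h1, h2⟩ := (hAmin p').1 hp'
        obtain ⟨q, hq, hqp⟩ := hmin.surjOn h1
        have hle' : q.comap (algebraMap R S) ≤ p := by
          rw [hqp]
          intro r hr
          by_contra hrp
          exact h2.ne_top (Ideal.eq_top_of_isUnit_mem _ hr (IsLocalization.map_units A (⟨r, hrp⟩ : p.primeCompl)))
        have hd := hdisj q hq.1.1 hle'
        haveI := IsLocalization.isPrime_of_isPrime_disjoint M B q hq.1.1 hd
        have hback : (q.map (algebraMap S B)).comap (algebraMap S B) = q :=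
          IsLocalization.under_map_of_isPrime_disjoint M B hq.1.1 hd
        refine ⟨q.map (algebraMap S B), (hpm _).2 ⟨hback.symm ▸ hq, this⟩, hcA _ _ ?_⟩
        rw [hcm, hback, hqp])
    (fun P hP b => by
      obtain ⟨⟨s, m⟩, hsm⟩ := IsLocalization.surj M b
      obtain ⟨r, hr, hrm⟩ := m.2
      obtain ⟨a, a₀, ha, has⟩ := hbir _ ((hpm P).1 hP).1 s
      refine ⟨algebraMap R A (a * r), algebraMap R A a₀, ?_, ?_⟩
      · rw [hφ, map_mul, map_mul]
        exact fun h => (((hpm P).1 hP).2.mem_or_mem h).elim ha fun h' =>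
          hle P ((hpm P).1 hP).2 (show r ∈ (P.comap (algebraMap S B)).comap (algebraMap R S) from h') |> hr
      · rw [hφ, hφ, map_mul, map_mul, mul_assoc, hrm, mul_comm (algebraMap S B m.1), show b * algebraMap S B m.1 =
          algebraMap S B s from hsm, ← map_mul, ← map_sub]
        exact has)
  refine (ENat.card_congr e).trans (ENat.card_congr (Equiv.ofBijective (fun m => ⟨⟨m.asIdeal.comap (algebraMap S B),
    Ideal.IsPrime.comap _⟩, ?_⟩) ⟨fun m m' h => ?_, fun q => ?_⟩))
  · show (m.asIdeal.comap (algebraMap S B)).comap (algebraMap R S) = p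
    haveI := m.isMaximal
    have h1 : m.asIdeal.comap (algebraMap A B) = IsLocalRing.maximalIdeal A :=
      IsLocalRing.eq_maximalIdeal (Ideal.isMaximal_comap_of_isIntegral_of_isMaximal m.asIdeal)
    rw [← hcm, h1]; exact IsLocalization.AtPrime.under_maximalIdeal A p
  · exact MaximalSpectrum.ext (hext _ _ (congrArg (fun z => z.1.asIdeal) h))
  · have hd := hdisj q.1.asIdeal q.1.2 q.2.le
    haveI := IsLocalization.isPrime_of_isPrime_disjoint M B q.1.asIdeal q.1.2 hd
    have hback : (q.1.asIdeal.map (algebraMap S B)).comap (algebraMap S B) = q.1.asIdeal :=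
      IsLocalization.under_map_of_isPrime_disjoint M B q.1.2 hd
    have h1 : (q.1.asIdeal.map (algebraMap S B)).comap (algebraMap A B) = IsLocalRing.maximalIdeal A :=
      hcA _ _ (by rw [hcm, hback, q.2]; exact (IsLocalization.AtPrime.under_maximalIdeal A p).symm)
    haveI : ((q.1.asIdeal.map (algebraMap S B)).comap (algebraMap A B)).IsMaximal := h1 ▸ inferInstance
    refine ⟨⟨q.1.asIdeal.map (algebraMap S B), Ideal.isMaximal_of_isIntegral_of_isMaximal_comap (R := A) _ ‹_›⟩, ?_⟩
    exact Subtype.ext (PrimeSpectrum.ext hback)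

end Ring

section Scheme

variable {X Y : Scheme.{u}}

theorem closure_mem_irreducibleComponents_iff (η : X) :
    closure ({η} : Set X) ∈ irreducibleComponents (X : Type u) ↔ ∀ z : X, z ⤳ η → z = η := by
  constructor
  · intro h z hz
    have h1 : closure ({η} : Set X) ⊆ closure {z} :=
      closure_minimal (Set.singleton_subset_iff.2 (specializes_iff_mem_closure.1 hz)) isClosed_closure
    have h2 := h.2 (isIrreducible_singleton.closure) h1
    exact ((specializes_iff_mem_closure.2 (h2 (subset_closure rfl))).antisymm hz).eq.symm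
  · intro h
    refine ⟨isIrreducible_singleton.closure, fun Z hZ hle => ?_⟩
    obtain ⟨w, hw⟩ := QuasiSober.sober hZ.closure isClosed_closure
    have hwη : w ⤳ η := specializes_iff_mem_closure.2 (by rw [hw.def]; exact subset_closure (hle (subset_closure rfl)))
    rw [← h w hwη, hw.def]
    exact subset_closure

/-- Minimal primes of an affine open are its generic points. -/
theorem minimalPrimes_iff {U : X.Opens} (hU : IsAffineOpen U) (q : PrimeSpectrum Γ(X, U)) :
    q.asIdeal ∈ minimalPrimes Γ(X, U) ↔ closure ({hU.fromSpec q} : Set X) ∈ irreducibleComponents (X : Type u) := by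
  rw [closure_mem_irreducibleComponents_iff]
  have hemb := hU.fromSpec.isOpenEmbedding.isInducing
  constructor
  · intro hq z hz
    have hzU : z ∈ U := hz.mem_open U.2 (hU.range_fromSpec ▸ Set.mem_range_self q)
    obtain ⟨p, rfl⟩ : z ∈ Set.range hU.fromSpec := hU.range_fromSpec ▸ hzU
    have hle : (show PrimeSpectrum Γ(X, U) from p).asIdeal ≤ q.asIdeal :=
      (PrimeSpectrum.le_iff_specializes (show PrimeSpectrum Γ(X, U) from p) q).2 (hemb.specializes_iff.1 hz)
    rw [show (show PrimeSpectrum Γ(X, U) from p) = q from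
      PrimeSpectrum.ext (le_antisymm hle (hq.2 ⟨(show PrimeSpectrum Γ(X, U) from p).2, bot_le⟩ hle))]
  · intro h
    refine ⟨⟨q.2, bot_le⟩, fun p ⟨hp, _⟩ hle => ?_⟩
    have hs : hU.fromSpec ⟨p, hp⟩ ⤳ hU.fromSpec q :=
      hemb.specializes_iff.2 ((PrimeSpectrum.le_iff_specializes (⟨p, hp⟩ : PrimeSpectrum Γ(X, U)) q).1 hle)
    have e : (⟨p, hp⟩ : PrimeSpectrum Γ(X, U)) = q := hU.fromSpec.isOpenEmbedding.injective (h _ hs)
    exact (congrArg PrimeSpectrum.asIdeal e).ge

theorem mem_iff_evaluation_eq_zero {U : X.Opens} (hU : IsAffineOpen U) {x : X} (hx : x ∈ U) (a : Γ(X, U)) :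
    X.evaluation U x hx a = 0 ↔ a ∈ (hU.primeIdealOf ⟨x, hx⟩).asIdeal := by
  letI := TopCat.Presheaf.algebra_section_stalk X.presheaf ⟨x, hx⟩
  haveI := hU.isLocalization_stalk ⟨x, hx⟩
  show IsLocalRing.residue (X.presheaf.stalk x) (algebraMap Γ(X, U) (X.presheaf.stalk x) a) = 0 ↔ _
  rw [IsLocalRing.residue_eq_zero_iff]
  exact IsLocalization.AtPrime.to_map_mem_maximal_iff _ _ a

theorem exists_evaluation_frac {U : X.Opens} (hU : IsAffineOpen U) {x : X} (hx : x ∈ U) (c : X.residueField x) :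
    ∃ a a₀ : Γ(X, U), X.evaluation U x hx a ≠ 0 ∧ X.evaluation U x hx a * c = X.evaluation U x hx a₀ := by
  letI := TopCat.Presheaf.algebra_section_stalk X.presheaf ⟨x, hx⟩
  haveI := hU.isLocalization_stalk ⟨x, hx⟩
  obtain ⟨g, rfl⟩ := IsLocalRing.residue_surjective c
  obtain ⟨⟨a₀, a⟩, h⟩ := IsLocalization.surj (hU.primeIdealOf ⟨x, hx⟩).asIdeal.primeCompl g
  refine ⟨a.1, a₀, fun h0 => a.2 ((mem_iff_evaluation_eq_zero hU hx a.1).1 h0), ?_⟩
  show IsLocalRing.residue _ (algebraMap Γ(X, U) (X.presheaf.stalk x) a.1) * IsLocalRing.residue _ g =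
    IsLocalRing.residue _ (algebraMap Γ(X, U) (X.presheaf.stalk x) a₀)
  rw [← map_mul, mul_comm]
  exact congrArg _ h

/-- The branches of a scheme at a point are the points over it of its normalization. -/
theorem numBranchesAt_eq_card (π : Y ⟶ X) [IsFinite π] (hY : Pi1.IsNormalScheme Y)
    (hbij : Set.BijOn (fun y : Y => π y) {y : Y | closure ({y} : Set Y) ∈ irreducibleComponents (Y : Type u)}
      {x : X | closure ({x} : Set X) ∈ irreducibleComponents (X : Type u)})
    (hres : ∀ y : Y, closure ({y} : Set Y) ∈ irreducibleComponents (Y : Type u) → Function.Bijective (π.residueFieldMap y).hom)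
    (x : X) : Brnch.numBranchesAt X x = ENat.card {y : Y // π y = x} := by
  obtain ⟨_, ⟨U, hU, rfl⟩, hx, -⟩ := X.isBasis_affineOpens.exists_subset_of_mem_open (Set.mem_univ x) isOpen_univ
  have hV : IsAffineOpen (π ⁻¹ᵁ U) := hU.preimage π
  letI : Algebra Γ(X, U) Γ(Y, π ⁻¹ᵁ U) := (π.app U).hom.toAlgebra
  haveI : Algebra.IsIntegral Γ(X, U) Γ(Y, π ⁻¹ᵁ U) := ⟨fun s => IsFinite.finite_app π U hU |>.to_isIntegral s⟩
  have hcomap : ∀ q : PrimeSpectrum Γ(Y, π ⁻¹ᵁ U),
      hU.fromSpec (PrimeSpectrum.comap (π.app U).hom q) = π (hV.fromSpec q) := fun q => by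
    have h := hU.SpecMap_appLE_fromSpec π hV le_rfl
    rw [Scheme.Hom.appLE, show (homOfLE (le_rfl : π ⁻¹ᵁ U ≤ π ⁻¹ᵁ U)) = 𝟙 _ from rfl, op_id,
      CategoryTheory.Functor.map_id, Category.comp_id] at h
    exact congr($h q)
  let p := hU.primeIdealOf ⟨x, hx⟩
  have hxp : hU.fromSpec p = x := hU.fromSpec_primeIdealOf ⟨x, hx⟩
  letI := TopCat.Presheaf.algebra_section_stalk X.presheaf (⟨x, hx⟩ : U)
  haveI := hU.isLocalization_stalk ⟨x, hx⟩
  show Brnch.numBranches (X.presheaf.stalk x) = _
  rw [BrnchLib.EtNbhd.numBranches_congr (IsLocalization.algEquiv p.asIdeal.primeCompl (X.presheaf.stalk x)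
    (Localization.AtPrime p.asIdeal)).toRingEquiv]
  have hpt : ∀ q : Ideal Γ(Y, π ⁻¹ᵁ U), ∀ [q.IsPrime], hV.fromSpec ⟨q, inferInstance⟩ ∈ π ⁻¹ᵁ U := fun q _ => by
    have := Set.mem_range_self (f := hV.fromSpec) (⟨q, inferInstance⟩ : PrimeSpectrum Γ(Y, π ⁻¹ᵁ U))
    rwa [hV.range_fromSpec] at this
  rw [numBranches_eq_card (S := Γ(Y, π ⁻¹ᵁ U)) p.asIdeal (fun q _ => by
    let y : Y := hV.fromSpec ⟨q, inferInstance⟩
    letI := TopCat.Presheaf.algebra_section_stalk Y.presheaf (⟨y, hpt q⟩ : (π ⁻¹ᵁ U : Y.Opens))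
    haveI : IsLocalization.AtPrime (Y.presheaf.stalk y) q := hV.isLocalization_stalk' ⟨q, inferInstance⟩ (hpt q)
    let ψ := (IsLocalization.algEquiv q.primeCompl (Y.presheaf.stalk y) (Localization.AtPrime q)).toRingEquiv
    haveI := (hY y).1
    haveI := (hY y).2
    exact ⟨ψ.symm.toMulEquiv.isDomain _, IsIntegrallyClosed.of_equiv (R := Y.presheaf.stalk y) ψ⟩)
    (by
      refine ⟨fun q hq => ?_, fun q hq q' hq' h => ?_, fun r hr => ?_⟩
      · let P : PrimeSpectrum Γ(Y, π ⁻¹ᵁ U) := ⟨q, hq.1.1⟩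
        have h1 := hbij.mapsTo ((minimalPrimes_iff hV P).1 hq)
        refine (minimalPrimes_iff hU (PrimeSpectrum.comap (π.app U).hom P)).2 ?_
        rwa [hcomap]
      · let P : PrimeSpectrum Γ(Y, π ⁻¹ᵁ U) := ⟨q, hq.1.1⟩
        let P' : PrimeSpectrum Γ(Y, π ⁻¹ᵁ U) := ⟨q', hq'.1.1⟩
        have h1 := hbij.injOn ((minimalPrimes_iff hV P).1 hq) ((minimalPrimes_iff hV P').1 hq') (by
          show π (hV.fromSpec P) = π (hV.fromSpec P')
          rw [← hcomap, ← hcomap, show PrimeSpectrum.comap (π.app U).hom P = PrimeSpectrum.comap (π.app U).hom P' from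
            PrimeSpectrum.ext h])
        exact congrArg PrimeSpectrum.asIdeal (hV.fromSpec.isOpenEmbedding.injective h1)
      · let R : PrimeSpectrum Γ(X, U) := ⟨r, hr.1.1⟩
        obtain ⟨y, hy, hyr⟩ := hbij.surjOn ((minimalPrimes_iff hU R).1 hr)
        have hyV : y ∈ π ⁻¹ᵁ U := by
          show π y ∈ U
          rw [show π y = hU.fromSpec R from hyr]
          have := Set.mem_range_self (f := hU.fromSpec) R
          rwa [hU.range_fromSpec] at this
        have hQ : hV.fromSpec (hV.primeIdealOf ⟨y, hyV⟩) = y := hV.fromSpec_primeIdealOf ⟨y, hyV⟩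
        refine ⟨(hV.primeIdealOf ⟨y, hyV⟩).asIdeal, (minimalPrimes_iff hV _).2 (by rw [hQ]; exact hy),
          congrArg PrimeSpectrum.asIdeal (hU.fromSpec.isOpenEmbedding.injective
            (show hU.fromSpec (PrimeSpectrum.comap (π.app U).hom _) = hU.fromSpec R by rw [hcomap, hQ]; exact hyr))⟩)
    (fun q hq s => by
      haveI := hq.1.1
      let y : Y := hV.fromSpec ⟨q, inferInstance⟩
      have hq' : hV.primeIdealOf ⟨y, hpt q⟩ = ⟨q, inferInstance⟩ :=
        hV.fromSpec.isOpenEmbedding.injective (hV.fromSpec_primeIdealOf ⟨y, hpt q⟩)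
      have hb := hres y ((minimalPrimes_iff hV ⟨q, inferInstance⟩).1 hq)
      obtain ⟨c, hc⟩ := hb.2 (Y.evaluation (π ⁻¹ᵁ U) y (hpt q) s)
      obtain ⟨a, a₀, ha, ha₀⟩ := exists_evaluation_frac hU (hpt q) c
      have hev : ∀ z, (π.residueFieldMap y).hom (X.evaluation U (π y) (hpt q) z) =
          Y.evaluation (π ⁻¹ᵁ U) y (hpt q) (π.app U z) := fun z => Scheme.evaluation_naturality_apply π y (hpt q) z
      refine ⟨a, a₀, ?_, ?_⟩
      · intro h
        have h' : (π.app U a : Γ(Y, π ⁻¹ᵁ U)) ∈ (hV.primeIdealOf ⟨y, hpt q⟩).asIdeal := by rw [hq']; exact h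
        rw [← mem_iff_evaluation_eq_zero hV (hpt q), ← hev] at h'
        exact ha (hb.1 (h'.trans (map_zero _).symm))
      · show (π.app U a : Γ(Y, π ⁻¹ᵁ U)) * s - π.app U a₀ ∈ q
        have h' := congrArg (π.residueFieldMap y).hom ha₀
        rw [map_mul, hev, hev, hc, ← map_mul, ← sub_eq_zero, ← map_sub, mem_iff_evaluation_eq_zero hV (hpt q), hq'] at h'
        exact h')]
  refine ENat.card_congr (Equiv.ofBijective (fun q => ⟨hV.fromSpec q.1, ?_⟩) ⟨fun a b h => ?_, fun y => ?_⟩)
  · rw [← hcomap, show PrimeSpectrum.comap (π.app U).hom q.1 = p from PrimeSpectrum.ext q.2, hxp]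
  · have hh := congrArg Subtype.val h
    exact Subtype.ext (hV.fromSpec.isOpenEmbedding.injective hh)
  · have hyV : y.1 ∈ π ⁻¹ᵁ U := by show π y.1 ∈ U; rw [y.2]; exact hx
    have hQ : hV.fromSpec (hV.primeIdealOf ⟨y.1, hyV⟩) = y.1 := hV.fromSpec_primeIdealOf ⟨y.1, hyV⟩
    refine ⟨⟨hV.primeIdealOf ⟨y.1, hyV⟩, congrArg PrimeSpectrum.asIdeal (hU.fromSpec.isOpenEmbedding.injective
      (show hU.fromSpec (PrimeSpectrum.comap (π.app U).hom _) = hU.fromSpec p by rw [hcomap, hQ, hxp, y.2]))⟩, ?_⟩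
    exact Subtype.ext hQ

end Scheme


end Groth.Agent.PicTors18
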