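import Mathlib.GroupTheory.Coset.Card
import Mathlib.Algebra.Group.Pi.Lemmas
import Mathlib.Data.ZMod.Basic
import Mathlib.Data.Finite.Prod
import Mathlib.GroupTheory.QuotientGroup.Basic

/-! Counting labellings of a connected bipartite configuration modulo labellings of the two sides. -/

set_option autoImplicit false

universe u v w z

namespace Groth.Agent.PicTors18

variable {F : Type u} {C : Type v} {B : Type w} (p : F → C) (q : F → B) (M : Type z) [CommGroup M]

/-- The labellings of the edges induced by labellings of the two sides. -/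
def edgeHom : (C → M) × (B → M) →* (F → M) where
  toFun a y := a.1 (p y) * a.2 (q y)
  map_one' := funext fun y => mul_one _
  map_mul' a a' := funext fun y => mul_mul_mul_comm _ _ _ _

/-- The count in the multiplicative form. -/
theorem card_quot_mul [Finite F] [Finite C] [Finite B] [Finite M] (hq : Function.Surjective q)
    (hconn : ∀ a : C → M, (∀ y y', q y = q y' → a (p y) = a (p y')) → ∀ c c', a c = a c') [Nonempty C] :
    Nat.card ((F → M) ⧸ (edgeHom p q M).range) * Nat.card M ^ (Nat.card C + Nat.card B) =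
      Nat.card M ^ (Nat.card F + 1) := by
  obtain ⟨c₀⟩ := ‹Nonempty C›
  have e1 := Subgroup.card_eq_card_quotient_mul_card_subgroup (edgeHom p q M).range
  have e2 : Nat.card ((C → M) × (B → M)) =
      Nat.card (edgeHom p q M).range * Nat.card (edgeHom p q M).ker := by
    rw [Subgroup.card_eq_card_quotient_mul_card_subgroup (edgeHom p q M).ker,
      Nat.card_congr (QuotientGroup.quotientKerEquivRange (edgeHom p q M)).toEquiv]
  have e3 : Nat.card (edgeHom p q M).ker = Nat.card M := by
    refine Nat.card_congr ⟨fun x => x.1.1 c₀, fun m => ⟨(fun _ => m, fun _ => m⁻¹), funext fun y => mul_inv_cancel m⟩,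
      fun x => ?_, fun m => rfl⟩
    have h1 : ∀ y, x.1.1 (p y) * x.1.2 (q y) = 1 := fun y => congrFun x.2 y
    have h2 := hconn x.1.1 fun y y' h => by
      rw [eq_inv_of_mul_eq_one_left (h1 y), eq_inv_of_mul_eq_one_left (h1 y'), h]
    refine Subtype.ext (Prod.ext (funext fun c => h2 c₀ c) (funext fun b => ?_))
    obtain ⟨y, rfl⟩ := hq b
    show (x.1.1 c₀)⁻¹ = x.1.2 (q y)
    rw [h2 c₀ (p y), ← eq_inv_of_mul_eq_one_right (h1 y)]
  rw [Nat.card_fun] at e1
  rw [e3, Nat.card_prod, Nat.card_fun, Nat.card_fun, ← pow_add] at e2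
  rw [e2, ← mul_assoc, ← e1, pow_succ]

/-- The configuration has enough edges. -/
theorem card_add_card_le [Finite F] [Finite C] [Finite B] (hq : Function.Surjective q)
    (hconn : ∀ {M : Type} (a : C → M), (∀ y y', q y = q y' → a (p y) = a (p y')) → ∀ c c', a c = a c') [Nonempty C] :
    Nat.card C + Nat.card B ≤ Nat.card F + 1 := by
  haveI : Finite (Multiplicative (ZMod 2)) := Finite.of_equiv _ Multiplicative.ofAdd
  have h := card_quot_mul p q (Multiplicative (ZMod 2)) hq hconn
  rw [Nat.card_congr (Multiplicative.toAdd (α := ZMod 2)), Nat.card_zmod] at h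
  exact (Nat.pow_dvd_pow_iff_le_right Nat.one_lt_two).1 (Dvd.intro_left _ h)

/-- The count. -/
theorem card_quot [Finite F] [Finite C] [Finite B] [Finite M] (hq : Function.Surjective q)
    (hconn : ∀ {M' : Type z} (a : C → M'), (∀ y y', q y = q y' → a (p y) = a (p y')) → ∀ c c', a c = a c') [Nonempty C]
    (hle : Nat.card C + Nat.card B ≤ Nat.card F + 1) :
    Nat.card ((F → M) ⧸ (edgeHom p q M).range) = Nat.card M ^ (Nat.card F + 1 - (Nat.card C + Nat.card B)) := by
  have h := card_quot_mul p q M hq hconn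
  have hpos : 0 < Nat.card M ^ (Nat.card C + Nat.card B) := pow_pos Nat.card_pos _
  refine Nat.eq_of_mul_eq_mul_right hpos ?_
  rw [h, ← pow_add, Nat.sub_add_cancel hle]

/-- Counting through a homomorphism with torsion source: fibres are translates of the kernel. -/
theorem card_eq_ker_mul {A A' : Type u} [CommMonoid A] [CommMonoid A'] (φ : A →* A') {n : ℕ} (hn : 0 < n)
    (S : Set A) (T : Set A') (h1 : ∀ a ∈ S, a ^ n = 1) (hmul : ∀ a ∈ S, ∀ b ∈ S, a * b ∈ S)
    (hone : (1 : A) ∈ S) (hmaps : Set.MapsTo φ S T) (hsurj : Set.SurjOn φ S T) :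
    Nat.card S = Nat.card {a : A | a ∈ S ∧ φ a = 1} * Nat.card T := by
  have hpow : ∀ a ∈ S, ∀ m : ℕ, a ^ m ∈ S := fun a ha m => by
    induction m with
    | zero => rw [pow_zero]; exact hone
    | succ m ih => rw [pow_succ]; exact hmul _ ih _ ha
  choose σ hσS hσ using fun t : T => hsurj t.2
  have hinv : ∀ a ∈ S, a ^ (n - 1) * a = 1 := fun a ha => by rw [← pow_succ, Nat.sub_add_cancel hn, h1 a ha]
  have hinv' : ∀ t : T, φ (σ t) ^ (n - 1) * (t : A') = 1 := fun t => by
    rw [← map_pow, ← hσ t, ← map_mul, hinv _ (hσS t), map_one]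
  rw [← Nat.card_prod]
  refine Nat.card_congr
    { toFun := fun s => (⟨s.1 * σ ⟨φ s.1, hmaps s.2⟩ ^ (n - 1), hmul _ s.2 _ (hpow _ (hσS _) _), ?_⟩, ⟨φ s.1, hmaps s.2⟩)
      invFun := fun x => ⟨x.1.1 * σ x.2, hmul _ x.1.2.1 _ (hσS _)⟩
      left_inv := fun s => ?_
      right_inv := fun x => ?_ }
  · rw [map_mul, map_pow, mul_comm]
    exact hinv' ⟨φ s.1, hmaps s.2⟩
  · refine Subtype.ext ?_
    dsimp only
    rw [mul_assoc, hinv _ (hσS _), mul_one]
  · have h : φ (x.1.1 * σ x.2) = x.2.1 := by rw [map_mul, x.1.2.2, one_mul, hσ]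
    refine Prod.ext (Subtype.ext ?_) (Subtype.ext h)
    dsimp only
    rw [show (⟨φ (x.1.1 * σ x.2), hmaps (hmul _ x.1.2.1 _ (hσS _))⟩ : T) = x.2 from Subtype.ext h,
      mul_assoc, mul_comm (σ x.2), hinv _ (hσS _), mul_one]

end Groth.Agent.PicTors18
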