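import Groth.Agent.PicTors18.Affine
import Groth.Agent.InvX.GenLocusPull

/-! Invertible modules trivialised on a cover, through their sections. -/

set_option autoImplicit false
set_option linter.style.haveILetI false
set_option linter.unusedSectionVars false
set_option backward.isDefEq.respectTransparency false
set_option backward.isDefEq.respectTransparency.types false
set_option maxHeartbeats 1000000

universe u

open CategoryTheory AlgebraicGeometry TopologicalSpace
open Groth.Agent.AModX Groth.Agent.InvX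

namespace Groth.Agent.PicTors18

section Frames

variable {X : Scheme.{u}}

/-- The coordinate between two frames is a unit. -/
theorem isUnit_coord {M : X.Modules} {W : X.Opens} {e e' : Γ(M, W)} (he : IsFrame e) (he' : IsFrame e')
    {c : Γ(X, W)} (hc : e' = c • e) : IsUnit c := by
  obtain ⟨d, hd⟩ := he'.exists_coord le_rfl e
  rw [res_self] at hd
  have h1 : d * c = 1 := he.coord_unique le_rfl (by rw [res_self, mul_smul, ← hc, ← hd, one_smul])
  exact IsUnit.of_mul_eq_one d (by rw [mul_comm]; exact h1)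

/-- Families of frames with equal transition functions are matched by an isomorphism. -/
theorem exists_iso_frames {M N : X.Modules} {ι : Type u} (U : ι → X.Opens) (hcov : ∀ x, ∃ a, x ∈ U a)
    (e : ∀ a, Γ(M, U a)) (he : ∀ a, IsFrame (e a)) (f : ∀ a, Γ(N, U a)) (hf : ∀ a, IsFrame (f a))
    (h : ∀ a b, ∃ g : Γ(X, U a ⊓ U b),
      res M (inf_le_left : U a ⊓ U b ≤ U a) (e a) = g • res M (inf_le_right : U a ⊓ U b ≤ U b) (e b) ∧
      res N (inf_le_left : U a ⊓ U b ≤ U a) (f a) = g • res N (inf_le_right : U a ⊓ U b ≤ U b) (f b)) :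
    ∃ φ : M ≅ N, ∀ a, φ.hom.app (U a) (e a) = f a := by
  have key : ∀ (a b : ι) (W : X.Opens) (ha : W ≤ U a) (hb : W ≤ U b), ∃ g : Γ(X, W),
      res M hb (e b) = g • res M ha (e a) ∧ res N hb (f b) = g • res N ha (f a) := fun a b W ha hb => by
    obtain ⟨g, h1, h2⟩ := h b a
    have hW : W ≤ U b ⊓ U a := le_inf hb ha
    refine ⟨resR hW g, ?_, ?_⟩
    · have := congrArg (res M hW) h1
      rwa [res_res, res_smul, res_res] at this
    · have := congrArg (res N hW) h2
      rwa [res_res, res_smul, res_res] at this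
  have hc : ∀ (a b : ι) (W : X.Opens) (ha : W ≤ U a) (hb : W ≤ U b) (g : Γ(X, W)),
      res M hb (e b) = g • res M ha (e a) → res N hb (f b) = g • res N ha (f a) := fun a b W ha hb g hg => by
    obtain ⟨g', h1, h2⟩ := key a b W ha hb
    rwa [(he a).coord_unique ha (h1.symm.trans hg)] at h2
  have hc' : ∀ (a b : ι) (W : X.Opens) (ha : W ≤ U a) (hb : W ≤ U b) (g : Γ(X, W)),
      res N hb (f b) = g • res N ha (f a) → res M hb (e b) = g • res M ha (e a) := fun a b W ha hb g hg => by
    obtain ⟨g', h1, h2⟩ := key a b W ha hb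
    rwa [(hf a).coord_unique ha (h2.symm.trans hg)] at h1
  refine ⟨⟨ofFrames hcov he hc, ofFrames hcov hf hc', hom_ext_of_frames U hcov e he fun a => ?_,
    hom_ext_of_frames U hcov f hf fun a => ?_⟩, fun a => ofFrames_app hcov he hc a⟩
  · show (ofFrames hcov hf hc').app (U a) ((ofFrames hcov he hc).app (U a) (e a)) = e a
    rw [ofFrames_app, ofFrames_app]
  · show (ofFrames hcov he hc).app (U a) ((ofFrames hcov hf hc').app (U a) (f a)) = f a
    rw [ofFrames_app, ofFrames_app]

/-- The global unit gluing a family of local units. -/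
theorem exists_global_unit {ι : Type u} (U : ι → X.Opens) (hcov : ∀ x, ∃ a, x ∈ U a) (r : ∀ a, Γ(X, U a))
    (hr : ∀ a, IsUnit (r a))
    (h : ∀ a b, resR (inf_le_left : U a ⊓ U b ≤ U a) (r a) = resR inf_le_right (r b)) :
    ∃ c : Γ(X, ⊤), IsUnit c ∧ ∀ a, resR le_top c = r a := by
  obtain ⟨c, hc, -⟩ := existsUnique_glue (M := Coh.structureModule X) U (fun _ => le_top)
    (fun p _ => hcov p) r h
  choose s hs using fun a => (hr a).exists_left_inv
  have hs' : ∀ a b, resR (inf_le_left : U a ⊓ U b ≤ U a) (s a) = resR inf_le_right (s b) := fun a b => by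
    refine ((hr a).map (resR (inf_le_left : U a ⊓ U b ≤ U a))).mul_right_cancel ?_
    rw [← map_mul, hs, map_one, h a b, ← map_mul, hs, map_one]
  obtain ⟨d, hd, -⟩ := existsUnique_glue (M := Coh.structureModule X) U (fun _ => le_top)
    (fun p _ => hcov p) s hs'
  refine ⟨c, IsUnit.of_mul_eq_one d ?_, hc⟩
  refine eq_of_locally (M := Coh.structureModule X) _ _ fun p _ => ?_
  obtain ⟨a, ha⟩ := hcov p
  refine ⟨U a, le_top, ha, ?_⟩
  show resR le_top ((show Γ(X, ⊤) from c) * (show Γ(X, ⊤) from d)) = resR le_top (1 : Γ(X, ⊤))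
  rw [map_mul, map_one, show resR le_top (show Γ(X, ⊤) from c) = r a from hc a,
    show resR le_top (show Γ(X, ⊤) from d) = s a from hd a, mul_comm, hs]

end Frames

/-- A functional of degree `m` on the sections of a module, with values upstairs. -/
structure Fun {X Y : Scheme.{u}} (π : Y ⟶ X) (m : ℕ) (L : X.Modules) where
  /-- The values. -/
  app : ∀ W : X.Opens, Γ(L, W) → Γ(Y, π ⁻¹ᵁ W)
  res' : ∀ {W W' : X.Opens} (h : W' ≤ W) (e : Γ(L, W)),
    app W' (res L h e) = resR (π.preimage_mono h) (app W e)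
  smul' : ∀ {W : X.Opens} (c : Γ(X, W)) (e : Γ(L, W)), app W (c • e) = π.app W c ^ m * app W e
  unit' : ∀ {W : X.Opens} {e : Γ(L, W)}, IsFrame e → IsUnit (app W e)

namespace Fun

variable {X Y : Scheme.{u}} {π : Y ⟶ X} {m : ℕ} {L L' : X.Modules}

/-- Transport. -/
noncomputable def map (F : Fun π m L) (φ : L' ≅ L) : Fun π m L' where
  app W e := F.app W (φ.hom.app W e)
  res' h e := by rw [app_res, F.res']
  smul' c e := by rw [Scheme.Modules.Hom.app_smul, F.smul']
  unit' he := F.unit' (he.map_iso φ)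

/-- Scaling by a global unit. -/
noncomputable def scale (F : Fun π m L) (a : Γ(Y, ⊤)) (ha : IsUnit a) : Fun π m L where
  app W e := resR le_top a * F.app W e
  res' h e := by rw [map_mul, F.res', resR_resR]
  smul' c e := by rw [F.smul']; ring
  unit' he := (ha.map _).mul (F.unit' he)

/-- Powers. -/
noncomputable def pow (F : Fun π m L) (n : ℕ) : Fun π (m * n) L where
  app W e := F.app W e ^ n
  res' h e := by rw [F.res', map_pow]
  smul' c e := by rw [F.smul', mul_pow, ← pow_mul]
  unit' he := (F.unit' he).pow n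

/-- Pulling values back. -/
noncomputable def push (π : Y ⟶ X) (F : Fun (𝟙 X) m L) : Fun π m L where
  app W e := π.app W (F.app W e)
  res' h e := by
    rw [F.res']
    exact PicTorsThick.app_resR π h _
  smul' {W} c e := by
    rw [F.smul']
    exact (map_mul (π.app W).hom (c ^ m) (F.app W e)).trans (by rw [map_pow])
  unit' he := (F.unit' he).map _

/-- Two functionals of the same degree differ by a global unit. -/
theorem exists_ratio (hL : PicF.IsInvertible L) (F F' : Fun π m L) :
    ∃ a : Γ(Y, ⊤), IsUnit a ∧ ∀ (W : X.Opens) (e : Γ(L, W)), F'.app W e = resR le_top a * F.app W e := by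
  choose U hU e he using fun x : X => InvX.exists_frame hL x
  have hu : ∀ x, ∃ q : Γ(Y, π ⁻¹ᵁ U x), IsUnit q ∧ F'.app (U x) (e x) = q * F.app (U x) (e x) := fun x => by
    obtain ⟨d, hd⟩ := (F.unit' (he x)).exists_left_inv
    exact ⟨F'.app (U x) (e x) * d, (F'.unit' (he x)).mul (IsUnit.of_mul_eq_one _ hd),
      by rw [mul_assoc, hd, mul_one]⟩
  choose q hqu hq using hu
  have hres : ∀ (x : X) (W : X.Opens) (h : W ≤ U x) (c : Γ(X, W)),
      F'.app W (c • res L h (e x)) = resR (π.preimage_mono h) (q x) * F.app W (c • res L h (e x)) := fun x W h c => by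
    rw [F'.smul', F.smul', F'.res', F.res', hq, map_mul]
    ring
  have hov : ∀ x y, resR (inf_le_left : π ⁻¹ᵁ U x ⊓ π ⁻¹ᵁ U y ≤ π ⁻¹ᵁ U x) (q x) = resR inf_le_right (q y) := fun x y => by
    obtain ⟨c, hc⟩ := (he y).exists_coord (inf_le_right : U x ⊓ U y ≤ U y) (res L inf_le_left (e x))
    have h1 := hres y _ inf_le_right c
    have h2 := hres x _ (inf_le_left : U x ⊓ U y ≤ U x) 1
    rw [one_smul] at h2
    rw [← hc] at h1
    have hcancel : IsUnit (F.app (U x ⊓ U y) (res L inf_le_left (e x))) := F.unit' ((he x).res _)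
    exact hcancel.mul_right_cancel (h2.symm.trans h1)
  obtain ⟨a, hau, ha⟩ := exists_global_unit (fun x => π ⁻¹ᵁ U x) (fun y => ⟨π y, hU _⟩) q hqu hov
  refine ⟨a, hau, fun W s => eq_of_locally (M := Coh.structureModule Y) _ _ fun p hp => ?_⟩
  let x := π p
  refine ⟨π ⁻¹ᵁ (W ⊓ U x), π.preimage_mono inf_le_left, ⟨hp, hU x⟩, ?_⟩
  obtain ⟨c, hc⟩ := (he x).exists_coord (inf_le_right : W ⊓ U x ≤ U x) (res L inf_le_left s)
  have hWx : W ⊓ U x ≤ W := inf_le_left
  show resR (π.preimage_mono hWx) (F'.app W s) = resR (π.preimage_mono hWx) (resR le_top a * F.app W s)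
  rw [map_mul, ← F'.res' hWx, ← F.res' hWx, hc, hres, resR_resR, ← ha x, resR_resR]

/-- From a trivialisation of the pullback. -/
noncomputable def ofPull (φ : (Scheme.Modules.pullback π).obj L ≅ Coh.structureModule Y) : Fun π 1 L where
  app W e := φ.hom.app (π ⁻¹ᵁ W) (pullElt π e)
  res' h e := by rw [← PicNormLib.pullElt_res π h e, app_res]; rfl
  smul' c e := by rw [PicNormLib.pullElt_smul, Scheme.Modules.Hom.app_smul, pow_one]; rfl
  unit' he := isUnit_coord (isFrame_one _) ((isFrame_pullElt π he).map_iso φ) (mul_one (M := Γ(Y, _)) _).symm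

/-- From a trivialisation of a power of the pullback. -/
noncomputable def ofPullPow (n : ℕ)
    (φ : CohB1.tensorPow ((Scheme.Modules.pullback π).obj L) n ≅ Coh.structureModule Y) : Fun π n L where
  app W e := φ.hom.app (π ⁻¹ᵁ W) (PicTorsThick.powElt (pullElt π e) n)
  res' h e := by rw [← PicNormLib.pullElt_res π h e, ← PicTorsThick.res_powElt, app_res]; rfl
  smul' c e := by rw [PicNormLib.pullElt_smul, PicTorsThick.powElt_smul, Scheme.Modules.Hom.app_smul]; rfl
  unit' he := isUnit_coord (isFrame_one _)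
    ((PicTorsThick.isFrame_powElt (isFrame_pullElt π he) n).map_iso φ) (mul_one (M := Γ(Y, _)) _).symm

/-- From a trivialisation of a power. -/
noncomputable def ofPow (n : ℕ) (ψ : CohB1.tensorPow L n ≅ Coh.structureModule X) : Fun (𝟙 X) n L where
  app W e := ψ.hom.app W (PicTorsThick.powElt e n)
  res' h e := by rw [← PicTorsThick.res_powElt, app_res]; rfl
  smul' c e := by rw [PicTorsThick.powElt_smul, Scheme.Modules.Hom.app_smul]; rfl
  unit' he := isUnit_coord (isFrame_one _) ((PicTorsThick.isFrame_powElt he n).map_iso ψ) (mul_one (M := Γ(X, _)) _).symm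

end Fun

/-- Compatible trivialisations of the pullback and of the `n`-th power. -/
structure Trv {X Y : Scheme.{u}} (π : Y ⟶ X) (n : ℕ) (L : X.Modules) where
  /-- The trivialisation of the pullback. -/
  co : Fun π 1 L
  /-- The trivialisation of the power. -/
  pw : Fun (𝟙 X) n L
  co_pow : ∀ (W : X.Opens) (e : Γ(L, W)), co.app W e ^ n = π.app W (pw.app W e)

section Torsion

variable {X Y : Scheme.{u}} {π : Y ⟶ X} {n : ℕ} {L L' : X.Modules}

/-- Transport. -/
noncomputable def Trv.map (t : Trv π n L) (φ : L' ≅ L) : Trv π n L' where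
  co := t.co.map φ
  pw := t.pw.map φ
  co_pow W e := t.co_pow W _

/-- Trivial torsion classes have compatible trivialisations. -/
theorem exists_trv (hroot : ∀ a : Γ(Y, ⊤), IsUnit a → ∃ b : Γ(Y, ⊤), b ^ n = a) (hn : n ≠ 0)
    (hL : PicF.IsInvertible L) (φ : (Scheme.Modules.pullback π).obj L ≅ Coh.structureModule Y)
    (ψ : CohB1.tensorPow L n ≅ Coh.structureModule X) : Nonempty (Trv π n L) := by
  let co := Fun.ofPull φ
  let pw := Fun.ofPow n ψ
  let P : Fun π n L :=
    { app := fun W e => co.app W e ^ n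
      res' := fun h e => by rw [co.res', map_pow]
      smul' := fun c e => by rw [co.smul', pow_one, mul_pow]
      unit' := fun he => (co.unit' he).pow n }
  obtain ⟨a, hau, ha⟩ := P.exists_ratio hL (pw.push π)
  obtain ⟨b, hb⟩ := hroot a hau
  refine ⟨⟨co.scale b ((isUnit_pow_iff hn).1 (hb.symm ▸ hau)), pw, fun W e => ?_⟩⟩
  show (resR le_top b * co.app W e) ^ n = (pw.push π).app W e
  rw [ha W e, mul_pow, ← map_pow, hb]

/-- Two trivialisations differ by a global unit upstairs. -/
theorem Trv.exists_ratio (hL : PicF.IsInvertible L) (t t' : Trv π n L) :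
    ∃ (a : Γ(Y, ⊤)) (c : Γ(X, ⊤)), IsUnit a ∧ IsUnit c ∧
      (∀ (W : X.Opens) (e : Γ(L, W)), t'.co.app W e = resR le_top a * t.co.app W e) ∧ a ^ n = π.app ⊤ c := by
  obtain ⟨a, hau, ha⟩ := t.co.exists_ratio hL t'.co
  obtain ⟨c, hcu, hc⟩ := t.pw.exists_ratio hL t'.pw
  refine ⟨a, c, hau, hcu, ha, ?_⟩
  refine eq_of_locally (M := Coh.structureModule Y) _ _ fun p _ => ?_
  obtain ⟨U, hU, e, he⟩ := InvX.exists_frame hL (π p)
  refine ⟨π ⁻¹ᵁ U, le_top, hU, ?_⟩
  show resR le_top (a ^ n) = resR _ (π.app ⊤ c)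
  have h1 := t'.co_pow U e
  rw [ha U e, hc U e, mul_pow, t.co_pow] at h1
  have h2 : π.app U (resR (le_top : U ≤ ⊤) c * (show Γ(X, U) from t.pw.app U e)) =
      resR (le_top : π ⁻¹ᵁ U ≤ ⊤) (π.app ⊤ c) * π.app U (t.pw.app U e) := by
    rw [map_mul, PicTorsThick.app_resR π le_top]; rfl
  refine ((t.pw.unit' he).map (π.app U).hom).mul_right_cancel ?_
  rw [map_pow]
  exact h1.trans h2

end Torsion

section Build

variable {X Y : Scheme.{u}} (π : Y ⟶ X) {B : Set X} (hπ : IsSetup π B)

include hπ in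
/-- Twisting by units upstairs which are only allowed to be nontrivial near the bad points. -/
theorem exists_twist (U : X → X.Opens) (hU : ∀ x, x ∈ U x) (htight : ∀ x, ∀ b ∈ B, b ∈ U x → b = x)
    (L : X.Modules) (e : ∀ x, Γ(L, U x)) (he : ∀ x, IsFrame (e x))
    (s : ∀ x, Γ(Y, π ⁻¹ᵁ U x)) (hs : ∀ x, IsUnit (s x)) :
    ∃ (L' : X.Modules) (e' : ∀ x, Γ(L', U x)), PicF.IsInvertible L' ∧ (∀ x, IsFrame (e' x)) ∧
      ∀ x y, ∃ g g' : Γ(X, U x ⊓ U y),
        res L (inf_le_left : U x ⊓ U y ≤ U x) (e x) = g • res L inf_le_right (e y) ∧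
        res L' (inf_le_left : U x ⊓ U y ≤ U x) (e' x) = g' • res L' inf_le_right (e' y) ∧
        π.app _ g' * resR (π.preimage_mono inf_le_right) (s y) =
          π.app _ g * resR (π.preimage_mono inf_le_left) (s x) := by
  choose g hg using fun x y => (he y).exists_coord (inf_le_right : U x ⊓ U y ≤ U y) (res L inf_le_left (e x))
  have hgu : ∀ x y, IsUnit (g x y) := fun x y => isUnit_coord ((he y).res _) ((he x).res _) (hg x y)
  have hh : ∀ x y, ∃ h : Γ(X, U x ⊓ U y), IsUnit h ∧
      π.app _ h * resR (π.preimage_mono inf_le_right) (s y) = resR (π.preimage_mono inf_le_left) (s x) := fun x y => by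
    by_cases hxy : x = y
    · subst hxy
      exact ⟨1, isUnit_one, by rw [map_one, one_mul]⟩
    have hW : ∀ b ∈ B, b ∉ U x ⊓ U y := fun b hb hb' =>
      hxy ((htight x b hb hb'.1).symm.trans (htight y b hb hb'.2))
    have hu := (hs y).map (resR (π.preimage_mono (inf_le_right : U x ⊓ U y ≤ U y)))
    obtain ⟨h, hh⟩ := hπ.surj _ hW (resR (π.preimage_mono inf_le_left) (s x) * hu.unit⁻¹.1)
    obtain ⟨h', hh'⟩ := hπ.surj _ hW (resR (π.preimage_mono inf_le_right) (s y) *
      ((hs x).map (resR (π.preimage_mono (inf_le_left : U x ⊓ U y ≤ U x)))).unit⁻¹.1)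
    refine ⟨h, IsUnit.of_mul_eq_one h' (hπ.inj _ ?_), by rw [hh, mul_assoc, IsUnit.val_inv_mul, mul_one]⟩
    rw [map_mul, map_one, hh, hh', mul_mul_mul_comm, mul_comm _ (resR _ (s y)), mul_mul_mul_comm,
      IsUnit.mul_val_inv, IsUnit.mul_val_inv, one_mul]
  choose h hhu hh using hh
  have hG : ∀ x y, IsUnit (g x y * h x y) := fun x y => (hgu x y).mul (hhu x y)
  let t : H23.CocycleMod.Cocycle U :=
    { g := fun x y => (hG x y).unit
      trans := fun x y z W hx hy hz => by
        simp only [IsUnit.unit_spec, map_mul]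
        have h1 : resR (le_inf hx hz) (g x z) = resR (le_inf hy hz) (g y z) * resR (le_inf hx hy) (g x y) := by
          refine (he z).coord_unique hz ?_
          have e1 := congrArg (res L (le_inf hx hz)) (hg x z)
          have e2 := congrArg (res L (le_inf hx hy)) (hg x y)
          have e3 := congrArg (res L (le_inf hy hz)) (hg y z)
          simp only [res_smul, res_res] at e1 e2 e3
          rw [← e1, e2, e3, mul_comm, mul_smul]
        have h2 : resR (le_inf hx hz) (h x z) = resR (le_inf hy hz) (h y z) * resR (le_inf hx hy) (h x y) := by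
          refine hπ.inj W (((hs z).map (resR (π.preimage_mono hz))).mul_right_cancel ?_)
          have e1 := congrArg (resR (π.preimage_mono (le_inf hx hz))) (hh x z)
          have e2 := congrArg (resR (π.preimage_mono (le_inf hx hy))) (hh x y)
          have e3 := congrArg (resR (π.preimage_mono (le_inf hy hz))) (hh y z)
          simp only [map_mul, resR_resR] at e1 e2 e3
          rw [← PicTorsThick.app_resR π (le_inf hx hz)] at e1
          rw [← PicTorsThick.app_resR π (le_inf hx hy)] at e2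
          rw [← PicTorsThick.app_resR π (le_inf hy hz)] at e3
          rw [e1, map_mul, mul_comm (π.app W (resR (le_inf hy hz) (h y z))), mul_assoc, e3, e2]
        rw [h1, h2]
        ring }
  have hUtop : iSup U = ⊤ := top_le_iff.1 fun x _ => Opens.mem_iSup.2 ⟨x, hU x⟩
  refine ⟨H23.CocycleMod.mod t, H23.CocycleMod.frame t, H23.CocycleMod.isInvertible t hUtop,
    H23.CocycleMod.isFrame_frame t, fun x y => ⟨g x y, g x y * h x y, hg x y, ?_, ?_⟩⟩
  · rw [H23.CocycleMod.res_frame]
    rfl
  · rw [map_mul, mul_assoc, hh]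

end Build

end Groth.Agent.PicTors18
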