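import Groth.Agent.PicTors18.Affine
import Groth.Agent.GeomField.GlobalFunctions
import Groth.Agent.Lib.CurveSection
import Groth.Agent.CurveCohLib.Proper

/-! Global functions on reduced proper schemes through their values at closed points. -/

set_option autoImplicit false
set_option linter.style.haveILetI false
set_option linter.unusedSectionVars false
set_option backward.isDefEq.respectTransparency false
set_option backward.isDefEq.respectTransparency.types false
set_option maxHeartbeats 1000000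

universe u

open CategoryTheory AlgebraicGeometry TopologicalSpace
open Groth.Agent.AModX

namespace Groth.Agent.PicTors18

attribute [local instance] Curv2.resAlgebra Curv2.stalkAlgebra GeomField.globalAlgebra

variable (k : Type u) [Field k] [IsAlgClosed k] {W : Scheme.{u}} [W.Over (Spec (CommRingCat.of k))]
  [LocallyOfFiniteType (W ↘ Spec (CommRingCat.of k))]

/-- Constants take their own values. -/
theorem val_algebraMap {y : W} (hy : IsClosed ({y} : Set W)) (c : k) :
    val (W ↘ Spec (CommRingCat.of k)) hy ⊤ trivial (algebraMap k Γ(W, ⊤) c) = c := by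
  let e := residueFieldIsoBase (W ↘ Spec (CommRingCat.of k)) y hy
  have h : e.inv = CommRingCat.ofHom (Curv2.resMap k W y) :=
    Spec.map_injective (by rw [SpecMap_residueFieldIsoBase_inv, GeomConn5.spec_resMap])
  have h2 : W.evaluation ⊤ y trivial (algebraMap k Γ(W, ⊤) c) = Curv2.resMap k W y c :=
    (GeomField.evalHom k W y).commutes c
  show e.hom.hom (W.evaluation ⊤ y trivial (algebraMap k Γ(W, ⊤) c)) = c
  rw [h2, show Curv2.resMap k W y c = e.inv c by rw [h]; rfl]
  exact e.inv_hom_id_apply c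

/-- A function vanishing at all closed points is zero. -/
theorem eq_zero_of_val [AlgebraicGeometry.IsReduced W] (a : Γ(W, ⊤))
    (h : ∀ (y : W) (hy : IsClosed ({y} : Set W)), val (W ↘ Spec (CommRingCat.of k)) hy ⊤ trivial a = 0) : a = 0 := by
  haveI : JacobsonSpace W := LocallyOfFiniteType.jacobsonSpace (W ↘ Spec (CommRingCat.of k))
  refine (AlgebraicGeometry.basicOpen_eq_bot_iff a).1 (Opens.ext (Set.not_nonempty_iff_eq_empty.1 fun hne => ?_))
  obtain ⟨y, hy, hyc⟩ := nonempty_inter_closedPoints hne (W.basicOpen a).isOpen.isLocallyClosed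
  exact (val_eq_zero_iff (W ↘ Spec (CommRingCat.of k)) hyc ⊤ trivial a).1 (h y hyc) hy

theorem ext_of_val [AlgebraicGeometry.IsReduced W] {a b : Γ(W, ⊤)}
    (h : ∀ (y : W) (hy : IsClosed ({y} : Set W)),
      val (W ↘ Spec (CommRingCat.of k)) hy ⊤ trivial a = val (W ↘ Spec (CommRingCat.of k)) hy ⊤ trivial b) : a = b :=
  sub_eq_zero.1 (eq_zero_of_val k _ fun y hy => by rw [map_sub, h, sub_self])

/-- Functions are constant on preconnected subsets. -/
theorem exists_val_eq_of_isPreconnected [UniversallyClosed (W ↘ Spec (CommRingCat.of k))] {Z : Set W}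
    (hZ : _root_.IsPreconnected Z) (a : Γ(W, ⊤)) :
    ∃ c : k, ∀ (y : W) (hy : IsClosed ({y} : Set W)), y ∈ Z → val (W ↘ Spec (CommRingCat.of k)) hy ⊤ trivial a = c := by
  haveI : JacobsonSpace W := LocallyOfFiniteType.jacobsonSpace (W ↘ Spec (CommRingCat.of k))
  haveI := GeomField.algebraMap_integral k W
  obtain ⟨p, hp, hpa⟩ := Algebra.IsIntegral.isIntegral (R := k) a
  have hval : ∀ (y : W) (hy : IsClosed ({y} : Set W)), p.IsRoot (val (W ↘ Spec (CommRingCat.of k)) hy ⊤ trivial a) := by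
    intro y hy
    have h1 := Polynomial.hom_eval₂ p (algebraMap k Γ(W, ⊤)) (val (W ↘ Spec (CommRingCat.of k)) hy ⊤ trivial) a
    rw [hpa, map_zero, show (val (W ↘ Spec (CommRingCat.of k)) hy ⊤ trivial).comp (algebraMap k Γ(W, ⊤)) =
      RingHom.id k from RingHom.ext fun c => val_algebraMap k hy c] at h1
    exact h1.symm
  let T : k → Set W := fun c => ((W.basicOpen (a - algebraMap k Γ(W, ⊤) c) : W.Opens) : Set W)ᶜ
  have hT : ∀ (c : k) (y : W) (hy : IsClosed ({y} : Set W)), y ∈ T c ↔ val (W ↘ Spec (CommRingCat.of k)) hy ⊤ trivial a = c := by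
    intro c y hy
    show y ∉ W.basicOpen (a - algebraMap k Γ(W, ⊤) c) ↔ _
    rw [← val_eq_zero_iff (W ↘ Spec (CommRingCat.of k)) hy ⊤ trivial, map_sub, val_algebraMap, sub_eq_zero]
  have hcl : ∀ c, IsClosed (T c) := fun c => (W.basicOpen _).isOpen.isClosed_compl
  by_contra hne
  obtain ⟨y₀, hy₀, hy₀Z⟩ : ∃ (y : W) (_ : IsClosed ({y} : Set W)), y ∈ Z := by
    by_contra hh
    exact hne ⟨0, fun y hy hyZ => absurd ⟨y, hy, hyZ⟩ hh⟩
  let c₀ := val (W ↘ Spec (CommRingCat.of k)) hy₀ ⊤ trivial a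
  obtain ⟨y₁, hy₁, hy₁Z, hy₁c⟩ : ∃ (y : W) (hy : IsClosed ({y} : Set W)),
      y ∈ Z ∧ val (W ↘ Spec (CommRingCat.of k)) hy ⊤ trivial a ≠ c₀ := by
    by_contra hh
    push_neg at hh
    exact hne ⟨c₀, hh⟩
  classical
  let R := p.roots.toFinset.erase c₀
  have hroot : ∀ (y : W) (hy : IsClosed ({y} : Set W)),
      val (W ↘ Spec (CommRingCat.of k)) hy ⊤ trivial a ∈ p.roots.toFinset := fun y hy =>
    Multiset.mem_toFinset.2 ((Polynomial.mem_roots hp.ne_zero).2 (hval y hy))
  have hcl' : IsClosed (⋃ c ∈ R, T c) := isClosed_biUnion_finset fun c _ => hcl c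
  have hcov : ∀ z : W, z ∈ T c₀ ∪ ⋃ c ∈ R, T c := fun z => by
    by_contra hz
    obtain ⟨y, hy, hyc⟩ := nonempty_inter_closedPoints (Z := (T c₀ ∪ ⋃ c ∈ R, T c)ᶜ) ⟨z, hz⟩
      ((hcl c₀).union hcl').isOpen_compl.isLocallyClosed
    by_cases h : val (W ↘ Spec (CommRingCat.of k)) hyc ⊤ trivial a = c₀
    · exact hy (Or.inl ((hT _ y hyc).2 h))
    · exact hy (Or.inr (Set.mem_biUnion (Finset.mem_erase.2 ⟨h, hroot y hyc⟩) ((hT _ y hyc).2 rfl)))
  have hdisj : ∀ c ∈ R, ∀ z ∈ T c₀, z ∉ T c := fun c hc z h0 hzc => by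
    obtain ⟨y, ⟨hy0, hyc'⟩, hyc⟩ := nonempty_inter_closedPoints (Z := T c₀ ∩ T c) ⟨z, h0, hzc⟩
      ((hcl c₀).inter (hcl c)).isLocallyClosed
    exact (Finset.mem_erase.1 hc).1 (((hT c y hyc).1 hyc').symm.trans ((hT c₀ y hyc).1 hy0))
  obtain ⟨z, -, hz0, hzR⟩ := (isPreconnected_closed_iff.1 hZ) _ _ (hcl c₀) hcl' (fun z _ => hcov z)
    ⟨y₀, hy₀Z, (hT c₀ y₀ hy₀).2 rfl⟩
    ⟨y₁, hy₁Z, Set.mem_biUnion (Finset.mem_erase.2 ⟨hy₁c, hroot y₁ hy₁⟩) ((hT _ y₁ hy₁).2 rfl)⟩
  obtain ⟨c, hc, hzc⟩ := Set.mem_iUnion₂.1 hzR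
  exact hdisj c hc z hz0 hzc

/-- Global functions on a reduced proper scheme form a finite module. -/
theorem finite_globalFunctions [AlgebraicGeometry.IsReduced W] [IsProper (W ↘ Spec (CommRingCat.of k))] :
    Module.Finite k Γ(W, ⊤) := by
  haveI := CurveCohLib.isNoetherian_of_proper (k := k) (X := W)
  haveI : Finite (irreducibleComponents (W : Type u)) :=
    Set.finite_coe_iff.2 NoetherianSpace.finite_irreducibleComponents
  haveI : JacobsonSpace W := LocallyOfFiniteType.jacobsonSpace (W ↘ Spec (CommRingCat.of k))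
  choose z hzZ hzc using fun Z : irreducibleComponents (W : Type u) =>
    nonempty_inter_closedPoints Z.2.1.nonempty (isClosed_of_mem_irreducibleComponents Z.1 Z.2).isLocallyClosed
  let Φ : Γ(W, ⊤) →ₗ[k] (irreducibleComponents (W : Type u) → k) :=
    { toFun := fun a Z => val (W ↘ Spec (CommRingCat.of k)) (hzc Z) ⊤ trivial a
      map_add' := fun a b => funext fun Z => map_add _ a b
      map_smul' := fun c a => funext fun Z => by
        show val (W ↘ Spec (CommRingCat.of k)) (hzc Z) ⊤ trivial (c • a) = c * _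
        rw [Algebra.smul_def, map_mul, val_algebraMap] }
  refine Module.Finite.of_injective Φ ((injective_iff_map_eq_zero Φ).2 fun a ha => eq_zero_of_val k a fun y hy => ?_)
  obtain ⟨c, hc⟩ := exists_val_eq_of_isPreconnected k
    isIrreducible_irreducibleComponent.isConnected.isPreconnected a
  rw [hc y hy mem_irreducibleComponent,
    ← hc _ (hzc ⟨_, irreducibleComponent_mem_irreducibleComponents y⟩)
      (hzZ ⟨_, irreducibleComponent_mem_irreducibleComponents y⟩)]
  exact congrFun ha _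

end Groth.Agent.PicTors18
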