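import Groth.Agent.PicTors18.Twist
import Groth.Agent.PicTors18.Count
import Groth.Agent.H23.PicMul
import Mathlib.RingTheory.RootsOfUnity.AlgebraicallyClosed

/-! The kernel and the surjectivity of pullback on torsion classes along the normalization. -/

set_option autoImplicit false
set_option linter.style.haveILetI false
set_option linter.unusedSectionVars false
set_option backward.isDefEq.respectTransparency false
set_option backward.isDefEq.respectTransparency.types false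
set_option maxHeartbeats 1000000

universe u

open CategoryTheory AlgebraicGeometry TopologicalSpace
open Groth.Agent.AModX Groth.Agent.InvX
open scoped Groth.Agent.H23.PicMul

namespace Groth.Agent.PicTors18

/-- The classes of invertible modules killed by `n`. -/
def tors (X : Scheme.{u}) (n : ℕ) : Set (PicF.Cl X) :=
  {c | ∃ M : X.Modules, PicF.cl M = c ∧ PicF.IsInvertible M ∧
    Nonempty (CohB1.tensorPow M n ≅ Coh.structureModule X)}

theorem pow_eq_one_of_mem {X : Scheme.{u}} {n : ℕ} {c : PicF.Cl X} (h : c ∈ tors X n) : c ^ n = 1 := by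
  obtain ⟨M, rfl, -, hM⟩ := h
  rw [← H23.PicMul.cl_tensorPow]
  exact H23.PicMul.cl_eq_iff.2 hM

theorem one_mem_tors (X : Scheme.{u}) (n : ℕ) : (1 : PicF.Cl X) ∈ tors X n :=
  ⟨_, rfl, isInvertible_structureModule, H23.PicMul.cl_eq_iff.1 (by
    rw [H23.PicMul.cl_tensorPow, ← H23.PicMul.one_def, one_pow])⟩

theorem mul_mem_tors {X : Scheme.{u}} {n : ℕ} {a b : PicF.Cl X} (ha : a ∈ tors X n) (hb : b ∈ tors X n) :
    a * b ∈ tors X n := by
  have h1 := pow_eq_one_of_mem ha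
  have h2 := pow_eq_one_of_mem hb
  obtain ⟨A, rfl, hA, -⟩ := ha
  obtain ⟨B', rfl, hB, -⟩ := hb
  refine ⟨_, H23.PicMul.cl_tensor A B', H23.PicMul.isInvertible_tensor hA hB, H23.PicMul.cl_eq_iff.1 ?_⟩
  rw [H23.PicMul.cl_tensorPow, H23.PicMul.cl_tensor, mul_pow, h1, h2, one_mul]
  rfl

/-- The `n`-th power of a functional of degree one. -/
noncomputable def Fun.pow1 {X Y : Scheme.{u}} {π : Y ⟶ X} {L : X.Modules} (F : Fun π 1 L) (n : ℕ) : Fun π n L where
  app W e := F.app W e ^ n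
  res' h e := by rw [F.res', map_pow]
  smul' c e := by rw [F.smul', pow_one, mul_pow]
  unit' he := (F.unit' he).pow n

variable {k : Type u} [Field k] [IsAlgClosed k] {X Y : Scheme.{u}} (f : X ⟶ Spec (CommRingCat.of k))
  [LocallyOfFiniteType f] (π : Y ⟶ X) [IsFinite π] [LocallyOfFiniteType (π ≫ f)] {B : Set X}

/-- What is used about the global functions. -/
structure Consts (n : ℕ) {C : Type u} (comp : Y → C) : Prop where
  root : ∀ a : Γ(Y, ⊤), IsUnit a → ∃ b : Γ(Y, ⊤), b ^ n = a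
  const : ∀ a : Γ(Y, ⊤), ∃ φ : C → k, ∀ (y : Y) (hy : IsClosed ({y} : Set Y)),
    val (π ≫ f) hy ⊤ trivial a = φ (comp y)
  unit : ∀ φ : C → k, (∀ c, φ c ^ n = 1) → ∃ a : Γ(Y, ⊤), a ^ n = 1 ∧
    ∀ (y : Y) (hy : IsClosed ({y} : Set Y)), val (π ≫ f) hy ⊤ trivial a = φ (comp y)
  base : ∀ c : Γ(X, ⊤), ∃ α : k, ∀ (x : X) (hx : IsClosed ({x} : Set X)), val f hx ⊤ trivial c = α

variable (hπ : IsSetup π B) {n : ℕ} {C : Type u} {comp : Y → C}

theorem valOver_top {b : X} (hb : IsClosed ({b} : Set X)) {W : X.Opens} (hbW : b ∈ W) (y : {y : Y // π y = b})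
    (a : Γ(Y, ⊤)) :
    valOver f π hb hbW y (resR le_top a) = val (π ≫ f) (isClosed_of_over π hb y.2) ⊤ trivial a :=
  val_res (π ≫ f) _ _ _ a

include hπ in
/-- Every family of roots of unity at the points over the bad set occurs. -/
theorem exists_of_values [AlgebraicGeometry.IsNoetherian X] (hn : 0 < n) (hnk : IsUnit (n : k))
    (v : {y : Y // π y ∈ B} → k) (hv : ∀ y, v y ^ n = 1) :
    ∃ (L : X.Modules) (t : Trv π n L), PicF.IsInvertible L ∧
      Nonempty ((Scheme.Modules.pullback π).obj L ≅ Coh.structureModule Y) ∧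
      Nonempty (CohB1.tensorPow L n ≅ Coh.structureModule X) ∧ HasVal π f t v := by
  have hcl : ∀ x : X, IsClosed (B \ {x}) := fun x => by
    rw [← Set.biUnion_of_singleton (B \ {x})]
    exact (hπ.finite.subset Set.sdiff_subset).isClosed_biUnion fun b hb => hπ.closed b hb.1
  have hloc : ∀ x : X, ∃ (U : X.Opens) (hxU : x ∈ U), (∀ b ∈ B, b ∈ U → b = x) ∧
      ∃ (s : Γ(Y, π ⁻¹ᵁ U)) (w : Γ(X, U)), IsUnit s ∧ IsUnit w ∧ s ^ n = π.app U w ∧
        ∀ (hxB : x ∈ B) (hx : IsClosed ({x} : Set X)) (y : {y : Y // π y = x}),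
          valOver f π hx hxU y s = v ⟨y.1, y.2.symm ▸ hxB⟩ := fun x => by
    let U₀ : X.Opens := ⟨(B \ {x})ᶜ, (hcl x).isOpen_compl⟩
    have hxU₀ : x ∈ U₀ := fun h => h.2 rfl
    have htight : ∀ b ∈ B, b ∈ U₀ → b = x := fun b hb hbU => not_not.1 fun hne => hbU ⟨hb, hne⟩
    by_cases hxB : x ∈ B
    · obtain ⟨W', hW', hxW', s, w, hs, hw, hsw, hval⟩ := exists_root f π hπ hxB (hπ.closed x hxB) hxU₀ hn hnk
        (1 : Γ(Y, π ⁻¹ᵁ U₀)) isUnit_one (fun y => v ⟨y.1, y.2.symm ▸ hxB⟩) (fun y => by rw [map_one, mul_one, hv])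
      refine ⟨W', hxW', fun b hb hbW => htight b hb (hW' hbW), s, w, hs, hw, ?_, fun _ _ y => hval y⟩
      rwa [map_one, mul_one] at hsw
    · exact ⟨U₀, hxU₀, htight, 1, 1, isUnit_one, isUnit_one, by rw [map_one, one_pow], fun h => absurd h hxB⟩
  choose U hU htight s w hs hw hsw hval using hloc
  let e : ∀ x, Γ(Coh.structureModule X, U x) := fun x => (1 : Γ(X, U x))
  have he : ∀ x, IsFrame (e x) := fun x => isFrame_one _
  obtain ⟨L, e', hL, he', ⟨φ, hφ⟩, hψ⟩ := exists_twist_trv π hπ U hU htight _ e he s hs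
  let Q : Fun π n (Coh.structureModule X) :=
    { app := fun W a => π.app W (show Γ(X, W) from a) ^ n
      res' := fun {W W'} h a => by
        show π.app W' (resR h (show Γ(X, W) from a)) ^ n = resR _ (π.app W (show Γ(X, W) from a) ^ n)
        rw [PicTorsThick.app_resR, map_pow]
      smul' := fun {W} c a => by
        show π.app W (c * (show Γ(X, W) from a)) ^ n = _
        rw [map_mul, mul_pow]
      unit' := fun {W a} ha => ((isUnit_coord (isFrame_one _) ha (mul_one (M := Γ(X, W)) _).symm).map _).pow n }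
  obtain ⟨ψ, hψ⟩ := hψ n Q w hw fun x => by
    show s x ^ n * π.app (U x) (1 : Γ(X, U x)) ^ n = _
    rw [map_one, one_pow, mul_one, hsw]
  obtain ⟨φ₀, hφ₀⟩ := exists_iso_frames (fun x => π ⁻¹ᵁ U x) (fun y => ⟨π y, hU _⟩) (fun x => pullElt π (e x))
    (fun x => isFrame_pullElt π (he x)) (fun x => (show Γ(Coh.structureModule Y, π ⁻¹ᵁ U x) from (1 : Γ(Y, π ⁻¹ᵁ U x))))
    (fun x => isFrame_one _) fun x y => ⟨1, by
      show res _ (π.preimage_mono (inf_le_left : U x ⊓ U y ≤ U x)) (pullElt π (e x)) =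
        (1 : Γ(Y, π ⁻¹ᵁ (U x ⊓ U y))) • res _ (π.preimage_mono (inf_le_right : U x ⊓ U y ≤ U y)) (pullElt π (e y))
      rw [one_smul, PicNormLib.pullElt_res π (inf_le_left : U x ⊓ U y ≤ U x),
        PicNormLib.pullElt_res π (inf_le_right : U x ⊓ U y ≤ U y)]
      exact congrArg (pullElt π) (show resR _ (1 : Γ(X, U x)) = resR _ (1 : Γ(X, U y)) by rw [map_one, map_one]),
      by
      show resR _ (1 : Γ(Y, π ⁻¹ᵁ U x)) = (1 : Γ(Y, π ⁻¹ᵁ U x ⊓ π ⁻¹ᵁ U y)) * resR _ (1 : Γ(Y, π ⁻¹ᵁ U y))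
      rw [map_one, map_one, one_mul]⟩
  let co := Fun.ofPull (φ ≪≫ φ₀)
  have hco : ∀ x, co.app (U x) (e' x) = s x := fun x => by
    show (φ ≪≫ φ₀).hom.app (π ⁻¹ᵁ U x) (pullElt π (e' x)) = s x
    rw [Iso.trans_hom, Scheme.Modules.Hom.comp_app, ConcreteCategory.comp_apply, hφ,
      Scheme.Modules.Hom.app_smul, hφ₀]
    exact mul_one (M := Γ(Y, π ⁻¹ᵁ U x)) _
  have hpw : ∀ (W : X.Opens) (a : Γ(L, W)), co.app W a ^ n = π.app W ((Fun.ofPow n ψ).app W a) := fun W a =>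
    Fun.eq_of_frames π (co.pow1 n) ((Fun.ofPow n ψ).push π) U (fun x => ⟨x, hU x⟩) e' he' (fun x => by
      show co.app (U x) (e' x) ^ n = π.app (U x) (ψ.hom.app (U x) (PicTorsThick.powElt (e' x) n))
      rw [hco, hψ, hsw]) W a
  exact ⟨L, ⟨co, Fun.ofPow n ψ, hpw⟩, hL, ⟨φ ≪≫ φ₀⟩, ⟨ψ⟩, fun b hbB hb =>
    ⟨U b, hU b, e' b, 1, he' b, one_ne_zero, fun y => by
      show valOver f π hb (hU b) y (co.app (U b) (e' b)) = _
      rw [hco, one_mul, hval b hbB hb y]⟩⟩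

include hπ in
/-- Every compatible trivialisation has values which are roots of unity. -/
theorem exists_hasVal (hn : 0 < n) {L : X.Modules} (hL : PicF.IsInvertible L) (t : Trv π n L) :
    ∃ v : {y : Y // π y ∈ B} → k, (∀ y, v y ^ n = 1) ∧ HasVal π f t v := by
  choose W hbW e he using fun b : B => InvX.exists_frame hL b.1
  choose y₀ hy₀ using fun b : B => hπ.surjPt b.1
  let α : B → k := fun b => valOver f π (hπ.closed _ b.2) (hbW b) ⟨y₀ b, hy₀ b⟩ (t.co.app (W b) (e b))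
  have hα : ∀ b, α b ≠ 0 := fun b => ((t.co.unit' (he b)).map _).ne_zero
  have hpow : ∀ (b : B) (y : {y : Y // π y = b.1}),
      valOver f π (hπ.closed _ b.2) (hbW b) y (t.co.app (W b) (e b)) ^ n = α b ^ n := fun b y => by
    rw [← map_pow, ← map_pow, t.co_pow, valOver_app, valOver_app]
  refine ⟨fun y => valOver f π (hπ.closed _ y.2) (hbW ⟨π y.1, y.2⟩) ⟨y.1, rfl⟩
      (t.co.app (W ⟨π y.1, y.2⟩) (e ⟨π y.1, y.2⟩)) / α ⟨π y.1, y.2⟩,
    fun y => by rw [div_pow, hpow ⟨π y.1, y.2⟩ ⟨y.1, rfl⟩, div_self (pow_ne_zero _ (hα _))], fun b hbB hb => ?_⟩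
  refine ⟨W ⟨b, hbB⟩, hbW ⟨b, hbB⟩, e ⟨b, hbB⟩, α ⟨b, hbB⟩, he _, hα _, ?_⟩
  rintro ⟨y, rfl⟩
  dsimp only
  rw [mul_div_cancel₀ _ (hα _)]

include hπ in
/-- The values of isomorphic modules differ by labellings of the components and of the bad points. -/
theorem exists_rel (hC : Consts f π n comp) (hn : 0 < n) {L L' : X.Modules} (hL' : PicF.IsInvertible L')
    (t : Trv π n L) (t' : Trv π n L') {v v' : {y : Y // π y ∈ B} → k} (hv : ∀ y, v y ^ n = 1)
    (hv' : ∀ y, v' y ^ n = 1) (ht : HasVal π f t v) (ht' : HasVal π f t' v') (φ : L' ≅ L) :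
    ∃ (a : C → k) (β : B → k), (∀ c, a c ^ n = 1 ∨ ∀ y, comp y ≠ c ∨ π y ∉ B) ∧ (∀ b, β b ^ n = 1) ∧
      ∀ y, v' y = v y * (a (comp y.1) * β ⟨π y.1, y.2⟩) := by
  obtain ⟨a, c, hau, hcu, ha, hac⟩ := Trv.exists_ratio hL' (t.map φ) t'
  obtain ⟨φa, hφa⟩ := hC.const a
  obtain ⟨γ, hγ⟩ := hC.base c
  have hpow : ∀ y : {y : Y // π y ∈ B}, φa (comp y.1) ^ n = γ := fun y => by
    have hx := hπ.closed _ y.2
    have hy := isClosed_of_over π hx (rfl : π y.1 = π y.1)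
    rw [← hφa _ hy, ← map_pow, hac]
    exact (val_comp f π hy hx ⊤ trivial c).trans (hγ _ hx)
  have hval : ∀ b : B, ∃ ρ : k, ∀ y : {y : Y // π y = b.1},
      v' ⟨y.1, y.2.symm ▸ b.2⟩ = ρ * (φa (comp y.1) * v ⟨y.1, y.2.symm ▸ b.2⟩) := by
    intro b
    have hb := hπ.closed _ b.2
    obtain ⟨W₁, hbW₁, e₁, α₁, he₁, hα₁, h₁⟩ := (ht.map π f φ) b.1 b.2 hb
    obtain ⟨W₂, hbW₂, e₂, α₂, he₂, hα₂, h₂⟩ := ht' b.1 b.2 hb
    obtain ⟨g, hg⟩ := he₁.exists_coord (inf_le_left : W₁ ⊓ W₂ ≤ W₁) (res L' inf_le_right e₂)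
    have hbW : b.1 ∈ W₁ ⊓ W₂ := ⟨hbW₁, hbW₂⟩
    refine ⟨val f hb _ hbW g * α₁ / α₂, fun y => ?_⟩
    have e := congrArg (fun z => valOver f π hb hbW y (t'.co.app _ z)) hg
    rw [ha _ (g • _), (t.map φ).co.smul', pow_one, t'.co.res' inf_le_right,
      (t.map φ).co.res' inf_le_left, valOver_res f π hb (inf_le_right : W₁ ⊓ W₂ ≤ W₂), h₂, map_mul, map_mul, valOver_app, valOver_top, hφa,
      valOver_res f π hb (inf_le_left : W₁ ⊓ W₂ ≤ W₁), h₁] at e
    rw [div_mul_eq_mul_div, eq_div_iff hα₂]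
    linear_combination e
  choose ρ hρ using hval
  obtain ⟨r, hr⟩ := IsAlgClosed.exists_pow_nat_eq γ hn
  have hr0 : ∀ y : {y : Y // π y ∈ B}, r ≠ 0 := fun y h => by
    have h1 := hv' y
    have h2 := hρ ⟨π y.1, y.2⟩ ⟨y.1, rfl⟩
    have h3 : φa (comp y.1) = 0 := eq_zero_of_pow_eq_zero (n := n) (by rw [hpow, ← hr, h, zero_pow hn.ne'])
    dsimp only at h2
    rw [h2, h3, zero_mul, mul_zero, zero_pow hn.ne'] at h1
    exact zero_ne_one h1
  refine ⟨fun c => φa c / r, fun b => ρ b * r, fun c => ?_, fun b => ?_, fun y => ?_⟩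
  · by_cases h : ∀ y, comp y ≠ c ∨ π y ∉ B
    · exact Or.inr h
    · push_neg at h
      obtain ⟨y, rfl, hy⟩ := h
      refine Or.inl ?_
      rw [div_pow, hpow ⟨y, hy⟩, hr, div_self (hr ▸ pow_ne_zero _ (hr0 ⟨y, hy⟩))]
  · obtain ⟨y, hy⟩ := hπ.surjPt b.1
    have hy' : π y ∈ B := by rw [show π y = b.1 from hy]; exact b.2
    have h1 := congrArg (· ^ n) (hρ b ⟨y, hy⟩)
    dsimp only at h1
    rw [hv', mul_pow, mul_pow, hpow ⟨y, hy'⟩, hv, mul_one] at h1
    rw [mul_pow, hr, ← h1]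
  · have h := hρ ⟨π y.1, y.2⟩ ⟨y.1, rfl⟩
    dsimp only at h
    rw [h]
    field_simp [hr0 y]

include hπ in
/-- Labellings of the components and of the bad points do not change the module. -/
theorem nonempty_iso_of_rel [AlgebraicGeometry.IsNoetherian X] (hC : Consts f π n comp) (hn : 0 < n)
    (hnk : IsUnit (n : k)) {L L' : X.Modules} (hL : PicF.IsInvertible L) (hL' : PicF.IsInvertible L')
    (t : Trv π n L) (t' : Trv π n L') {v v' : {y : Y // π y ∈ B} → k} (ht : HasVal π f t v) (ht' : HasVal π f t' v')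
    (a : C → k) (β : B → k) (ha : ∀ c, a c ^ n = 1) (hβ : ∀ b, β b ^ n = 1)
    (h : ∀ y, v' y = v y * (a (comp y.1) * β ⟨π y.1, y.2⟩)) : Nonempty (L ≅ L') := by
  obtain ⟨au, hau, hval⟩ := hC.unit a ha
  let t₁ : Trv π n L := ⟨t.co.scale au (IsUnit.of_pow_eq_one hau hn.ne'), t.pw, fun W e => by
    show (resR le_top au * t.co.app W e) ^ n = _
    rw [mul_pow, ← map_pow, hau, map_one, one_mul, t.co_pow]⟩
  refine nonempty_iso_of_hasVal π f hπ hn hnk hL hL' t₁ t' (v := v') (fun b hbB hb => ?_) ht'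
  obtain ⟨W, hbW, e, α, he, hα, hy⟩ := ht b hbB hb
  refine ⟨W, hbW, e, α / β ⟨b, hbB⟩, he, div_ne_zero hα ?_, ?_⟩
  · exact (IsUnit.of_pow_eq_one (hβ ⟨b, hbB⟩) hn.ne').ne_zero
  rintro ⟨y, rfl⟩
  show valOver f π hb hbW ⟨y, rfl⟩ (resR le_top au * t.co.app W e) = _
  rw [map_mul, valOver_top, hval, hy, h]
  have := (IsUnit.of_pow_eq_one (hβ ⟨π y, hbB⟩) hn.ne').ne_zero
  field_simp

include hπ in
/-- The kernel of the pullback on torsion classes. -/
theorem card_ker [AlgebraicGeometry.IsNoetherian X] (hC : Consts f π n comp) (hn : 0 < n) (hnk : IsUnit (n : k)) :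
    Nat.card {c : PicF.Cl X | c ∈ tors X n ∧ PicF.pullCl π c = 1} =
      Nat.card (({y : Y // π y ∈ B} → rootsOfUnity n k) ⧸
        (edgeHom (fun y : {y : Y // π y ∈ B} => comp y.1) (fun y => (⟨π y.1, y.2⟩ : B)) (rootsOfUnity n k)).range) := by
  haveI : NeZero n := ⟨hn.ne'⟩
  let toK : ({y : Y // π y ∈ B} → rootsOfUnity n k) → {y : Y // π y ∈ B} → k := fun v y => ((v y : kˣ) : k)
  have hroot : ∀ z : rootsOfUnity n k, ((z : kˣ) : k) ^ n = 1 := fun z => by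
    rw [← Units.val_pow_eq_pow_val, (mem_rootsOfUnity n _).1 z.2, Units.val_one]
  choose L t hL hφ hψ hval using fun v => exists_of_values f π hπ hn hnk (toK v) fun y => hroot _
  have hmem : ∀ v, PicF.cl (L v) ∈ {c : PicF.Cl X | c ∈ tors X n ∧ PicF.pullCl π c = 1} := fun v =>
    ⟨⟨L v, rfl, hL v, hψ v⟩, (PicGrp.cl_eq_cl_iff _ _).2 (hφ v)⟩
  have hiff : ∀ v v', PicF.cl (L v) = PicF.cl (L v') ↔ v⁻¹ * v' ∈
      (edgeHom (fun y : {y : Y // π y ∈ B} => comp y.1) (fun y => (⟨π y.1, y.2⟩ : B)) (rootsOfUnity n k)).range := by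
    intro v v'
    constructor
    · intro h
      obtain ⟨φ⟩ := H23.PicMul.cl_eq_iff.1 h.symm
      obtain ⟨a, β, ha, hβ, hr⟩ := exists_rel f π hπ hC hn (hL v') (t v) (t v') (fun y => hroot _) (fun y => hroot _)
        (hval v) (hval v') φ
      classical
      let a' : C → k := fun c => if a c ^ n = 1 then a c else 1
      refine ⟨(fun c => rootsOfUnity.mkOfPowEq (a' c) (by unfold a'; split_ifs with hc <;> simp [hc]),
        fun b => rootsOfUnity.mkOfPowEq (β b) (hβ b)), funext fun y => ?_⟩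
      refine (eq_inv_mul_iff_mul_eq.2 (Subtype.ext (Units.ext ?_)))
      show ((v y : kˣ) : k) * (a' (comp y.1) * β ⟨π y.1, y.2⟩) = ((v' y : kˣ) : k)
      rw [show a' (comp y.1) = a (comp y.1) from if_pos ((ha _).resolve_right fun h => (h y.1).elim (· rfl) (· y.2))]
      exact (hr y).symm
    · rintro ⟨⟨a, β⟩, hab⟩
      refine H23.PicMul.cl_eq_iff.2 (nonempty_iso_of_rel f π hπ hC hn hnk (hL v) (hL v') (t v) (t v') (hval v) (hval v')
        (fun c => ((a c : kˣ) : k)) (fun b => ((β b : kˣ) : k)) (fun c => hroot _) (fun b => hroot _) fun y => ?_)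
      have h := (eq_inv_mul_iff_mul_eq.1 (congrFun hab y)).symm
      exact congrArg (fun z : rootsOfUnity n k => ((z : kˣ) : k)) h
  refine (Nat.card_congr (Equiv.ofBijective
    (Quotient.lift (fun v => (⟨PicF.cl (L v), hmem v⟩ :
        ({c : PicF.Cl X | c ∈ tors X n ∧ PicF.pullCl π c = 1} : Set (PicF.Cl X))))
      fun v v' h => Subtype.ext ((hiff v v').2 (QuotientGroup.leftRel_apply.1 h))) ⟨?_, ?_⟩)).symm
  · intro q q'
    induction q using Quotient.inductionOn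
    induction q' using Quotient.inductionOn
    exact fun h => Quotient.sound (QuotientGroup.leftRel_apply.2 ((hiff _ _).1 (congrArg Subtype.val h)))
  · rintro ⟨_, ⟨M, rfl, hM, ⟨ψ⟩⟩, hM1⟩
    obtain ⟨φ⟩ := (PicGrp.cl_eq_cl_iff _ _).1 hM1
    obtain ⟨t₀⟩ := exists_trv hC.root hn.ne' hM φ ψ
    obtain ⟨v, hv, hvv⟩ := exists_hasVal f π hπ hn hM t₀
    let v₁ : {y : Y // π y ∈ B} → rootsOfUnity n k := fun y => rootsOfUnity.mkOfPowEq (v y) (hv y)
    exact ⟨Quotient.mk'' v₁, Subtype.ext (H23.PicMul.cl_eq_iff.2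
      (nonempty_iso_of_hasVal π f hπ hn hnk (hL v₁) hM (t v₁) t₀ (hval v₁) hvv))⟩

include hπ f in
/-- Every torsion class upstairs descends to a torsion class. -/
theorem surjOn_tors [AlgebraicGeometry.IsNoetherian X] (hn : 0 < n) (hnk : IsUnit (n : k)) :
    Set.SurjOn (PicF.pullCl π) (tors X n) (tors Y n) := by
  rintro _ ⟨N, rfl, hN, hNn⟩
  obtain ⟨L, hL, ⟨i⟩⟩ := PicNormLib.exists_descent π B hπ.finite hπ.closed hπ.inj hπ.surj N hN
  obtain ⟨φn⟩ : Nonempty (CohB1.tensorPow ((Scheme.Modules.pullback π).obj L) n ≅ Coh.structureModule Y) := by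
    refine H23.PicMul.cl_eq_iff.1 ?_
    rw [H23.PicMul.cl_tensorPow, H23.PicMul.cl_eq_iff.2 ⟨i⟩, ← H23.PicMul.cl_tensorPow]
    exact H23.PicMul.cl_eq_iff.2 hNn
  let Q := Fun.ofPullPow n φn
  have hcl : ∀ x : X, IsClosed (B \ {x}) := fun x => by
    rw [← Set.biUnion_of_singleton (B \ {x})]
    exact (hπ.finite.subset Set.sdiff_subset).isClosed_biUnion fun b hb => hπ.closed b hb.1
  have hloc : ∀ x : X, ∃ (U : X.Opens) (_ : x ∈ U), (∀ b ∈ B, b ∈ U → b = x) ∧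
      ∃ (e : Γ(L, U)) (s : Γ(Y, π ⁻¹ᵁ U)) (w : Γ(X, U)),
        IsFrame e ∧ IsUnit s ∧ IsUnit w ∧ s ^ n * Q.app U e = π.app U w := fun x => by
    obtain ⟨W, hxW, e₀, he₀⟩ := InvX.exists_frame hL x
    let U₀ : X.Opens := W ⊓ ⟨(B \ {x})ᶜ, (hcl x).isOpen_compl⟩
    have hxU₀ : x ∈ U₀ := ⟨hxW, fun h => h.2 rfl⟩
    have htight : ∀ b ∈ B, b ∈ U₀ → b = x := fun b hb hbU => not_not.1 fun hne => hbU.2 ⟨hb, hne⟩
    have he := he₀.res (inf_le_left : U₀ ≤ W)
    by_cases hxB : x ∈ B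
    · let u := Q.app U₀ (res L (inf_le_left : U₀ ≤ W) e₀)
      have hne : ∀ y, valOver f π (hπ.closed x hxB) hxU₀ y u ≠ 0 := fun y => ((Q.unit' he).map _).ne_zero
      choose v hv using fun y => IsAlgClosed.exists_pow_nat_eq (valOver f π (hπ.closed x hxB) hxU₀ y u)⁻¹ hn
      obtain ⟨W', hW', hxW', s, w, hs, hw, hsw, -⟩ := exists_root f π hπ hxB (hπ.closed x hxB) hxU₀ hn hnk
        u (Q.unit' he) v (fun y => by rw [hv, inv_mul_cancel₀ (hne y)])
      refine ⟨W', hxW', fun b hb hbW => htight b hb (hW' hbW), res L hW' (res L inf_le_left e₀), s, w,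
        he.res hW', hs, hw, ?_⟩
      rw [Q.res' hW']
      exact hsw
    · have hBU : ∀ b ∈ B, b ∉ U₀ := fun b hb hbU => hxB (htight b hb hbU ▸ hb)
      obtain ⟨w, hw⟩ := hπ.surj U₀ hBU (Q.app U₀ (res L (inf_le_left : U₀ ≤ W) e₀))
      exact ⟨U₀, hxU₀, htight, _, 1, w, he, isUnit_one, isUnit_of_app π hπ (hw ▸ Q.unit' he),
        by rw [one_pow, one_mul, hw]⟩
  choose U hU htight e s w he hs hw hsw using hloc
  obtain ⟨L', e', hL', -, ⟨φ, -⟩, hψ⟩ := exists_twist_trv π hπ U hU htight L e he s hs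
  obtain ⟨ψ, -⟩ := hψ n Q w hw hsw
  exact ⟨PicF.cl L', ⟨L', rfl, hL', ⟨ψ⟩⟩, (PicGrp.cl_eq_cl_iff _ _).2 ⟨φ ≪≫ i⟩⟩

include hπ in
/-- The count of torsion classes downstairs. -/
theorem card_tors [AlgebraicGeometry.IsNoetherian X] (hC : Consts f π n comp) (hn : 0 < n) (hnk : IsUnit (n : k)) :
    Nat.card (tors X n) = Nat.card (({y : Y // π y ∈ B} → rootsOfUnity n k) ⧸
        (edgeHom (fun y : {y : Y // π y ∈ B} => comp y.1) (fun y => (⟨π y.1, y.2⟩ : B)) (rootsOfUnity n k)).range) *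
      Nat.card (tors Y n) := by
  rw [← card_ker f π hπ hC hn hnk]
  refine card_eq_ker_mul (H23.PicMul.pullHom π) hn _ _ (fun a ha => pow_eq_one_of_mem ha)
    (fun a ha b hb => mul_mem_tors ha hb) (one_mem_tors X n) ?_ (surjOn_tors f π hπ hn hnk)
  rintro _ ⟨M, rfl, hM, hMn⟩
  refine ⟨_, rfl, PicLoc.isInvertible_pullback π hM, H23.PicMul.cl_eq_iff.1 ?_⟩
  rw [H23.PicMul.cl_tensorPow]
  show PicF.pullCl π (PicF.cl M) ^ n = _
  rw [← H23.PicMul.pullCl_pow, ← H23.PicMul.cl_tensorPow, H23.PicMul.cl_eq_iff.2 hMn, ← H23.PicMul.one_def,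
    H23.PicMul.pullCl_one, H23.PicMul.one_def]

end Groth.Agent.PicTors18
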