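import Groth.Agent.PicTors18.Kernel
import Groth.Agent.PicTors18.Global
import Groth.Agent.CurveGor.GenusFormula
import Groth.Agent.S14401

/-! Global functions and components of the normal cover. -/

set_option autoImplicit false
set_option linter.style.haveILetI false
set_option linter.unusedSectionVars false
set_option backward.isDefEq.respectTransparency false
set_option backward.isDefEq.respectTransparency.types false
set_option maxHeartbeats 1000000

universe u

open CategoryTheory AlgebraicGeometry TopologicalSpace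
open Groth.Agent.AModX

namespace Groth.Agent.PicTors18

/-- The generic points and the components correspond. -/
noncomputable def componentsEquiv (W : Scheme.{u}) :
    {η : W // closure ({η} : Set W) ∈ irreducibleComponents (W : Type u)} ≃ irreducibleComponents (W : Type u) :=
  Equiv.ofBijective (fun η => ⟨closure {η.1}, η.2⟩) ⟨fun η η' h => by
    have h1 : closure ({η.1} : Set W) = closure {η'.1} := congrArg Subtype.val h
    exact Subtype.ext ((specializes_iff_mem_closure.2 (h1 ▸ subset_closure rfl : η'.1 ∈ closure ({η.1} : Set W))).antisymm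
      (specializes_iff_mem_closure.2 (h1.symm ▸ subset_closure rfl : η.1 ∈ closure ({η'.1} : Set W)))).eq,
    fun Z => by
    obtain ⟨η, hη⟩ := QuasiSober.sober Z.2.1 (isClosed_of_mem_irreducibleComponents Z.1 Z.2)
    exact ⟨⟨η, by rw [hη.def]; exact Z.2⟩, Subtype.ext hη.def⟩⟩

section

variable {Y : Scheme.{u}}

theorem isReduced_of_normal (hY : Pi1.IsNormalScheme Y) : AlgebraicGeometry.IsReduced Y := by
  haveI : ∀ y : Y, _root_.IsReduced (Y.presheaf.stalk y) := fun y => by haveI := (hY y).1; infer_instance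
  exact isReduced_of_isReduced_stalk Y

/-- The component of a point. -/
noncomputable def comp (y : Y) : irreducibleComponents (Y : Type u) :=
  ⟨irreducibleComponent y, irreducibleComponent_mem_irreducibleComponents y⟩

variable [AlgebraicGeometry.IsNoetherian Y] (hY : Pi1.IsNormalScheme Y)

include hY

theorem comp_eq {y : Y} {Z : irreducibleComponents (Y : Type u)} (h : y ∈ Z.1) : comp y = Z := by
  obtain ⟨Z', -, huniq⟩ := (Groth.Agent.S14401.result Y fun y => (hY y).1).2 y
  refine Subtype.ext ((huniq _ ⟨irreducibleComponent_mem_irreducibleComponents y, mem_irreducibleComponent⟩).trans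
    (huniq _ ⟨Z.2, h⟩).symm)

theorem isClopen_component (Z : irreducibleComponents (Y : Type u)) : IsClopen Z.1 :=
  ⟨isClosed_of_mem_irreducibleComponents Z.1 Z.2, (Groth.Agent.S14401.result Y fun y => (hY y).1).1 Z.1 Z.2⟩

theorem isLocallyConstant_comp : IsLocallyConstant (comp (Y := Y)) :=
  IsLocallyConstant.iff_exists_open _ |>.2 fun y =>
    ⟨_, (isClopen_component hY (comp y)).2, mem_irreducibleComponent, fun y' hy' => comp_eq hY hy'⟩

/-- Labellings of the components agreeing over the bad points are constant. -/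
theorem comp_conn {X : Scheme.{u}} [ConnectedSpace X] (π : Y ⟶ X) [IsFinite π] {B : Set X} (hπ : IsSetup π B)
    {M : Type*} (a : irreducibleComponents (Y : Type u) → M)
    (ha : ∀ y y' : {y : Y // π y ∈ B}, (⟨π y.1, y.2⟩ : B) = ⟨π y'.1, y'.2⟩ → a (comp y.1) = a (comp y'.1)) :
    ∀ c c', a c = a c' := by
  intro c c'
  by_contra hne
  let S : Set Y := {y | a (comp y) = a c}
  have hS : IsClopen S := ((isLocallyConstant_comp hY).comp a).isClopen_fiber (a c)
  obtain ⟨y₀, hy₀⟩ := c.2.1.nonempty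
  obtain ⟨y₁, hy₁⟩ := c'.2.1.nonempty
  have hcl : ∀ T : Set Y, IsClosed T → IsClosed (π '' T) := fun T hT => π.isClosedMap T hT
  obtain ⟨x, -, ⟨y, hy, hyx⟩, ⟨y', hy', hy'x⟩⟩ := (isPreconnected_closed_iff.1 isPreconnected_univ) _ _ (hcl S hS.1)
    (hcl Sᶜ hS.2.isClosed_compl) (fun x _ => by
      obtain ⟨y, hy⟩ := hπ.surjPt x
      by_cases h : y ∈ S
      · exact Or.inl ⟨y, h, hy⟩
      · exact Or.inr ⟨y, h, hy⟩)
    ⟨_, trivial, y₀, (show a (comp y₀) = a c by rw [comp_eq hY hy₀]), rfl⟩
    ⟨_, trivial, y₁, (show ¬ a (comp y₁) = a c by rw [comp_eq hY hy₁]; exact fun h => hne h.symm), rfl⟩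
  refine hy' ?_
  show a (comp y') = a c
  by_cases hxB : x ∈ B
  · rw [← show a (comp y) = a c from hy]
    exact (ha ⟨y, hyx ▸ hxB⟩ ⟨y', hy'x ▸ hxB⟩ (Subtype.ext (hyx.trans hy'x.symm))).symm
  · have hclB : IsClosed B := by
      rw [← Set.biUnion_of_singleton B]
      exact hπ.finite.isClosed_biUnion fun b hb => hπ.closed b hb
    let W : X.Opens := ⟨Bᶜ, hclB.isOpen_compl⟩
    haveI := hπ.iso W fun b hb hbW => hbW hb
    have hW : ∀ z : Y, π z = x → z ∈ π ⁻¹ᵁ W := fun z hz => show π z ∈ (Bᶜ : Set X) from hz ▸ hxB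
    have hπW : ∀ z : (π ⁻¹ᵁ W : Scheme.{u}), ((π ∣_ W) z).1 = π z.1 := fun z => by
      show W.ι ((π ∣_ W) z) = π ((π ⁻¹ᵁ W).ι z)
      rw [← Scheme.Hom.comp_apply, morphismRestrict_ι]
      rfl
    have h : (⟨y, hW y hyx⟩ : (π ⁻¹ᵁ W : Scheme.{u})) = ⟨y', hW y' hy'x⟩ :=
      (asIso (π ∣_ W)).hom.homeomorph.injective
        (Subtype.ext ((hπW ⟨y, hW y hyx⟩).trans ((hyx.trans hy'x.symm).trans (hπW ⟨y', hW y' hy'x⟩).symm)))
    rw [show y' = y from (congrArg Subtype.val h).symm]
    exact hy

variable (k : Type u) [Field k] [IsAlgClosed k] {X : Scheme.{u}} [ConnectedSpace X]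
  (f : X ⟶ Spec (CommRingCat.of k)) [IsProper f] (π : Y ⟶ X) [IsFinite π]

/-- The facts about global functions. -/
theorem consts [AlgebraicGeometry.IsReduced X] {n : ℕ} (hn : 0 < n) : Consts f π n (comp (Y := Y)) := by
  classical
  letI : X.Over (Spec (CommRingCat.of k)) := ⟨f⟩
  letI : Y.Over (Spec (CommRingCat.of k)) := ⟨π ≫ f⟩
  haveI : IsProper (X ↘ Spec (CommRingCat.of k)) := ‹IsProper f›
  haveI : IsProper (Y ↘ Spec (CommRingCat.of k)) := inferInstanceAs (IsProper (π ≫ f))
  haveI := isReduced_of_normal hY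
  letI := GeomField.globalAlgebra k Y
  haveI : JacobsonSpace Y := LocallyOfFiniteType.jacobsonSpace (π ≫ f)
  haveI : Finite (irreducibleComponents (Y : Type u)) :=
    Set.finite_coe_iff.2 NoetherianSpace.finite_irreducibleComponents
  haveI := Fintype.ofFinite (irreducibleComponents (Y : Type u))
  have hconst : ∀ a : Γ(Y, ⊤), ∃ φ : irreducibleComponents (Y : Type u) → k,
      ∀ (y : Y) (hy : IsClosed ({y} : Set Y)), val (π ≫ f) hy ⊤ trivial a = φ (comp y) := fun a => by
    choose φ hφ using fun Z : irreducibleComponents (Y : Type u) =>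
      exists_val_eq_of_isPreconnected k Z.2.1.isConnected.isPreconnected a
    exact ⟨φ, fun y hy => hφ (comp y) y hy mem_irreducibleComponent⟩
  choose e he1 he0 using fun Z : irreducibleComponents (Y : Type u) =>
    CurveGor.exists_indicator Z.1 (isClopen_component hY Z)
  have hval : ∀ Z (y : Y) (hy : IsClosed ({y} : Set Y)),
      val (π ≫ f) hy ⊤ trivial (e Z) = if comp y = Z then 1 else 0 := fun Z y hy => by
    split_ifs with h
    · show (residueFieldIsoBase (π ≫ f) y hy).hom.hom (Y.residue y (Y.presheaf.germ ⊤ y trivial (e Z))) = 1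
      rw [he1 Z y (h ▸ mem_irreducibleComponent), map_one, map_one]
    · show (residueFieldIsoBase (π ≫ f) y hy).hom.hom (Y.residue y (Y.presheaf.germ ⊤ y trivial (e Z))) = 0
      rw [he0 Z y (fun hm => h (comp_eq hY hm)), map_zero, map_zero]
  let mk : (irreducibleComponents (Y : Type u) → k) → Γ(Y, ⊤) := fun φ =>
    ∑ Z, algebraMap k Γ(Y, ⊤) (φ Z) * e Z
  have hmk : ∀ φ (y : Y) (hy : IsClosed ({y} : Set Y)), val (π ≫ f) hy ⊤ trivial (mk φ) = φ (comp y) := fun φ y hy => by
    rw [map_sum, Finset.sum_eq_single (comp y)]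
    · rw [map_mul, hval, if_pos rfl, mul_one]
      exact val_algebraMap k hy _
    · intro Z _ hZ
      rw [map_mul, hval, if_neg (Ne.symm hZ), mul_zero]
    · exact fun h => absurd (Finset.mem_univ _) h
  refine ⟨fun a ha => ?_, hconst, fun φ hφ => ⟨mk φ, ?_, hmk φ⟩, fun c => ?_⟩
  · obtain ⟨φ, hφ⟩ := hconst a
    choose r hr using fun Z => IsAlgClosed.exists_pow_nat_eq (φ Z) hn
    refine ⟨mk r, ext_of_val k fun y hy => ?_⟩
    show val (π ≫ f) hy ⊤ trivial (mk r ^ n) = val (π ≫ f) hy ⊤ trivial a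
    rw [map_pow, hmk, hr, hφ]
  · refine ext_of_val k fun y hy => ?_
    show val (π ≫ f) hy ⊤ trivial (mk φ ^ n) = val (π ≫ f) hy ⊤ trivial 1
    rw [map_pow, hmk, hφ, map_one]
  · obtain ⟨α, hα⟩ := exists_val_eq_of_isPreconnected k (W := X) isPreconnected_univ c
    exact ⟨α, fun x hx => hα x hx trivial⟩

end

end Groth.Agent.PicTors18
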