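import Groth.Agent.PicTors18.NormalConsts
import Groth.Agent.S6545
import Groth.Agent.Lib.RigPoints
import Groth.Agent.Lib.EulerEtale
import Groth.Agent.NefH1.Field
import Groth.Agent.CurveCohLib.RegularCurve
import Groth.Agent.FlatLoc6.SerreNormal
import Groth.Agent.VarDim.Top

/-! Torsion classes of a normal proper curve. -/

set_option autoImplicit false
set_option linter.style.haveILetI false
set_option linter.unusedSectionVars false
set_option backward.isDefEq.respectTransparency false
set_option backward.isDefEq.respectTransparency.types false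
set_option maxHeartbeats 1000000
set_option synthInstance.maxHeartbeats 400000

universe u

open CategoryTheory CategoryTheory.Limits AlgebraicGeometry TopologicalSpace
open scoped Groth.Agent.H23.PicMul

namespace Groth.Agent.PicTors18

section Pieces

variable {W : Scheme.{u}} (U V : W.Opens)

/-- The two pieces, indexed. -/
def piece : ULift.{u} Bool → W.Opens
  | ⟨true⟩ => U
  | ⟨false⟩ => V

variable {U V}

theorem piece_disjoint (hVU : (V : Set W) = (U : Set W)ᶜ) {Z : Scheme.{u}} {s t : ULift.{u} Bool}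
    (a : Z ⟶ piece U V s) (b : Z ⟶ piece U V t) (h : a ≫ (piece U V s).ι = b ≫ (piece U V t).ι) (hst : s ≠ t) :
    IsEmpty Z := ⟨fun z => by
  have h1 : (a z).1 = (b z).1 := congrArg (fun m : Z ⟶ W => m z) h
  have hU : ∀ w : W, w ∈ U → w ∈ V → False := fun w hw hw' => (hVU.le hw') hw
  rcases s with ⟨_ | _⟩ <;> rcases t with ⟨_ | _⟩
  · exact hst rfl
  · exact hU (b z).1 (b z).2 (h1 ▸ (a z).2)
  · exact hU (a z).1 (a z).2 (h1.symm ▸ (b z).2)
  · exact hst rfl⟩

theorem piece_cover (hVU : (V : Set W) = (U : Set W)ᶜ) (w : W) : ∃ i x, (piece U V i).ι x = w := by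
  by_cases h : w ∈ U
  · exact ⟨⟨true⟩, ⟨w, h⟩, rfl⟩
  · exact ⟨⟨false⟩, ⟨w, hVU.ge h⟩, rfl⟩

/-- Torsion classes on two complementary pieces. -/
theorem card_tors_pieces (hVU : (V : Set W) = (U : Set W)ᶜ) (n : ℕ) :
    Nat.card (tors W n) = Nat.card (tors (U : Scheme.{u}) n) * Nat.card (tors (V : Scheme.{u}) n) := by
  have hd := fun {Z : Scheme.{u}} {s t : ULift.{u} Bool} (a : Z ⟶ piece U V s) (b : Z ⟶ piece U V t) =>
    piece_disjoint hVU a b
  have hcov := piece_cover hVU
  have hmaps : ∀ {W' : Scheme.{u}} (j : W' ⟶ W) (c : PicF.Cl W), c ∈ tors W n → PicF.pullCl j c ∈ tors W' n := by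
    rintro W' j c hc
    have h1 := pow_eq_one_of_mem hc
    obtain ⟨M, rfl, hM, -⟩ := hc
    refine ⟨(Scheme.Modules.pullback j).obj M, rfl, PicLoc.isInvertible_pullback j hM, H23.PicMul.cl_eq_iff.1 ?_⟩
    rw [H23.PicMul.cl_tensorPow]
    show PicF.pullCl j (PicF.cl M) ^ n = _
    rw [← H23.PicMul.pullCl_pow, h1, H23.PicMul.pullCl_one, H23.PicMul.one_def]
  rw [← Nat.card_prod]
  refine Nat.card_eq_of_bijective
    (fun c => (⟨PicF.pullCl U.ι c.1, hmaps _ _ c.2⟩, ⟨PicF.pullCl V.ι c.1, hmaps _ _ c.2⟩)) ⟨?_, ?_⟩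
  · rintro ⟨c, M, rfl, hM, hMn⟩ ⟨c', M', rfl, hM', hMn'⟩ h
    refine Subtype.ext (RigPoints.cl_eq_of_disjoint (fun i => (piece U V i).ι) hd hcov ⟨M, rfl, hM⟩ ⟨M', rfl, hM'⟩ ?_)
    rintro ⟨_ | _⟩
    · exact congrArg (fun p => (Prod.snd p).1) h
    · exact congrArg (fun p => (Prod.fst p).1) h
  · rintro ⟨⟨c₁, hc₁⟩, ⟨c₂, hc₂⟩⟩
    have h1 := pow_eq_one_of_mem hc₁
    have h2 := pow_eq_one_of_mem hc₂
    obtain ⟨L₁, rfl, hL₁, -⟩ := hc₁
    obtain ⟨L₂, rfl, hL₂, -⟩ := hc₂
    let L : ∀ i : ULift.{u} Bool, (piece U V i : Scheme.{u}).Modules := fun i => match i with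
      | ⟨true⟩ => L₁
      | ⟨false⟩ => L₂
    obtain ⟨M, hM, hMi⟩ := DisjointGlue.exists_glue (fun i => (piece U V i).ι) hd hcov L (by
      rintro ⟨_ | _⟩
      · exact hL₂
      · exact hL₁)
    have hpull : ∀ i, PicF.pullCl (piece U V i).ι (PicF.cl M) = PicF.cl (L i) := fun i =>
      (PicGrp.cl_eq_cl_iff _ _).2 (hMi i)
    have hpow : PicF.cl M ^ n = 1 :=
      RigPoints.cl_eq_one_of_disjoint (fun i => (piece U V i).ι) hd hcov
        (by rw [← H23.PicMul.cl_tensorPow]; exact ⟨_, rfl, H23.PicMul.isInvertible_tensorPow hM n⟩) (by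
        intro i
        rw [H23.PicMul.pullCl_pow, hpull]
        rcases i with ⟨_ | _⟩
        · exact h2
        · exact h1)
    refine ⟨⟨PicF.cl M, M, rfl, hM, H23.PicMul.cl_eq_iff.1 (by rw [H23.PicMul.cl_tensorPow, hpow, H23.PicMul.one_def])⟩, ?_⟩
    exact Prod.ext (Subtype.ext (hpull ⟨true⟩)) (Subtype.ext (hpull ⟨false⟩))

end Pieces

attribute [local instance] GeomField.globalAlgebra

/-- The genus of the empty scheme. -/
theorem genus_of_isEmpty (k : Type u) [Field k] (Z : Scheme.{u}) [IsEmpty Z] [Z.Over (Spec (CommRingCat.of k))] :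
    Curv2.genus k Z = 0 := by
  haveI : Subsingleton (Coh.HH Z (Coh.structureModule Z) 1) :=
    Euler.subsingleton_HH_of_isZero (KFlatLib.isZero_of_stalk _ fun z => isEmptyElim z) 1
  exact Module.finrank_zero_of_subsingleton

/-- The trivial class is the only one on the empty scheme. -/
theorem card_tors_of_isEmpty (Z : Scheme.{u}) [IsEmpty Z] (n : ℕ) : Nat.card (tors Z n) = 1 := by
  haveI : Subsingleton (tors Z n) := ⟨by
    rintro ⟨c, M, rfl, -, -⟩ ⟨c', M', rfl, -, -⟩
    exact Subtype.ext (H23.PicMul.cl_eq_iff.2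
      ⟨(KFlatLib.isZero_of_stalk M fun z => isEmptyElim z).iso (KFlatLib.isZero_of_stalk M' fun z => isEmptyElim z)⟩)⟩
  haveI : Nonempty (tors Z n) := ⟨⟨1, one_mem_tors Z n⟩⟩
  exact Nat.card_of_subsingleton (Classical.arbitrary _)

section Genus

variable (k : Type u) [Field k] [IsAlgClosed k] {W : Scheme.{u}} [W.Over (Spec (CommRingCat.of k))]
  [IsProper (W ↘ Spec (CommRingCat.of k))] [AlgebraicGeometry.IsReduced W]

/-- The genus is additive over clopen decompositions. -/
theorem genus_add (hdim : topologicalKrullDim W ≤ 1) {U V : W.Opens} (hVU : (V : Set W) = (U : Set W)ᶜ) :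
    letI : (U : Scheme.{u}).Over (Spec (CommRingCat.of k)) := ⟨U.ι ≫ (W ↘ Spec (CommRingCat.of k))⟩
    letI : (V : Scheme.{u}).Over (Spec (CommRingCat.of k)) := ⟨V.ι ≫ (W ↘ Spec (CommRingCat.of k))⟩
    Curv2.genus k W = Curv2.genus k (U : Scheme.{u}) + Curv2.genus k (V : Scheme.{u}) := by
  letI : (U : Scheme.{u}).Over (Spec (CommRingCat.of k)) := ⟨U.ι ≫ (W ↘ Spec (CommRingCat.of k))⟩
  letI : (V : Scheme.{u}).Over (Spec (CommRingCat.of k)) := ⟨V.ι ≫ (W ↘ Spec (CommRingCat.of k))⟩
  haveI := CurveCohLib.isNoetherian_of_proper (k := k) (X := W)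
  have hV : IsClosed (V : Set W) := hVU ▸ U.2.isClosed_compl
  have hU : IsClosed (U : Set W) := by
    have := V.2.isClosed_compl; rwa [show V.carrier = (U : Set W)ᶜ from hVU, compl_compl] at this
  haveI := EulerEtale.isClosedImmersion_ι hU
  haveI := EulerEtale.isClosedImmersion_ι hV
  haveI : IsProper ((U : Scheme.{u}) ↘ Spec (CommRingCat.of k)) :=
    inferInstanceAs (IsProper (U.ι ≫ (W ↘ Spec (CommRingCat.of k))))
  haveI : IsProper ((V : Scheme.{u}) ↘ Spec (CommRingCat.of k)) :=
    inferInstanceAs (IsProper (V.ι ≫ (W ↘ Spec (CommRingCat.of k))))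
  haveI : AlgebraicGeometry.IsReduced (U : Scheme.{u}) := isReduced_of_isOpenImmersion U.ι
  haveI : AlgebraicGeometry.IsReduced (V : Scheme.{u}) := isReduced_of_isOpenImmersion V.ι
  have hdU : topologicalKrullDim (U : Scheme.{u}) ≤ 1 :=
    (U.ι.isOpenEmbedding.isInducing.topologicalKrullDim_le).trans hdim
  have hdV : topologicalKrullDim (V : Scheme.{u}) ≤ 1 :=
    (V.ι.isOpenEmbedding.isInducing.topologicalKrullDim_le).trans hdim
  have he := EulerEtale.euler_clopen' k hVU (G := Coh.structureModule W) QCoh.isCoh_structureModule'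
  obtain ⟨eU⟩ := PicClLib.nonempty_pullback_structureModule U.ι
  obtain ⟨eV⟩ := PicClLib.nonempty_pullback_structureModule V.ι
  rw [Euler.euler_congr k eU, Euler.euler_congr k eV, NefH1.euler_eq k hdim QCoh.isQCoh_structureModule,
    NefH1.euler_eq k hdU QCoh.isQCoh_structureModule, NefH1.euler_eq k hdV QCoh.isQCoh_structureModule,
    GeomField.finrank_HH_zero, GeomField.finrank_HH_zero, GeomField.finrank_HH_zero] at he
  haveI := finite_globalFunctions k (W := (U : Scheme.{u}))
  haveI := finite_globalFunctions k (W := (V : Scheme.{u}))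
  let ρ : Γ(W, ⊤) →ₗ[k] Γ((U : Scheme.{u}), ⊤) × Γ((V : Scheme.{u}), ⊤) :=
    { toFun := fun a => (U.ι.appTop a, V.ι.appTop a)
      map_add' := fun a b => Prod.ext (map_add U.ι.appTop.hom a b) (map_add V.ι.appTop.hom a b)
      map_smul' := fun c a => Prod.ext (map_mul U.ι.appTop.hom (algebraMap k Γ(W, ⊤) c) a)
        (map_mul V.ι.appTop.hom (algebraMap k Γ(W, ⊤) c) a) }
  have hρ : Function.Bijective ρ := by
    have hUr : ∀ a, U.ι.appTop a = (U.topIso.inv) (AModX.resR le_top a) := fun a => by
      rw [Scheme.Opens.ι_appTop, Scheme.Opens.topIso_inv]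
      exact (AModX.resR_resR _ _ a).symm
    have hVr : ∀ a, V.ι.appTop a = (V.topIso.inv) (AModX.resR le_top a) := fun a => by
      rw [Scheme.Opens.ι_appTop, Scheme.Opens.topIso_inv]
      exact (AModX.resR_resR _ _ a).symm
    have hinjU := (ConcreteCategory.bijective_of_isIso U.topIso.inv)
    have hinjV := (ConcreteCategory.bijective_of_isIso V.topIso.inv)
    refine ⟨fun a b h => ?_, fun x => ?_⟩
    · have hu := hinjU.1 (((hUr a).symm.trans (congrArg Prod.fst h)).trans (hUr b))
      have hv := hinjV.1 (((hVr a).symm.trans (congrArg Prod.snd h)).trans (hVr b))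
      refine AModX.eq_of_locally (M := Coh.structureModule W) _ _ fun p _ => ?_
      by_cases hp : p ∈ U
      · exact ⟨U, le_top, hp, hu⟩
      · exact ⟨V, le_top, hVU.ge hp, hv⟩
    · obtain ⟨u', hu'⟩ := hinjU.2 x.1
      obtain ⟨v', hv'⟩ := hinjV.2 x.2
      let r : ∀ i : ULift.{u} Bool, Γ(W, piece U V i) := fun i => match i with
        | ⟨true⟩ => u'
        | ⟨false⟩ => v'
      obtain ⟨a, ha, -⟩ := AModX.existsUnique_glue (M := Coh.structureModule W) (piece U V) (fun _ => (le_top : _ ≤ (⊤ : W.Opens)))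
        (fun p _ => (piece_cover hVU p).imp fun i ⟨w, hw⟩ => hw ▸ w.2) r (by
          have hempty : ∀ p, p ∈ U → p ∈ V → False := fun p h h' => (hVU.le h') h
          rintro ⟨_ | _⟩ ⟨_ | _⟩
          · rfl
          · exact AModX.eq_of_locally (M := Coh.structureModule W) _ _ fun p hp => (hempty p hp.2 hp.1).elim
          · exact AModX.eq_of_locally (M := Coh.structureModule W) _ _ fun p hp => (hempty p hp.1 hp.2).elim
          · rfl)
      exact ⟨a, Prod.ext ((hUr a).trans ((congrArg U.topIso.inv (ha ⟨true⟩)).trans hu'))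
        ((hVr a).trans ((congrArg V.topIso.inv (ha ⟨false⟩)).trans hv'))⟩
  rw [(LinearEquiv.ofBijective ρ hρ).finrank_eq, Module.finrank_prod] at he
  simp only [Curv2.genus]
  push_cast at he
  omega

end Genus

section Count

variable (k : Type u) [Field k] [IsAlgClosed k]

/-- The count for a normal proper scheme whose generic points have transcendence degree one. -/
theorem card_tors_normal {n : ℕ} (hn : IsUnit (n : k)) : ∀ (m : ℕ) (W : Scheme.{u}) [W.Over (Spec (CommRingCat.of k))]
    [IsProper (W ↘ Spec (CommRingCat.of k))],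
    Nat.card {η : W // closure ({η} : Set W) ∈ irreducibleComponents (W : Type u)} ≤ m → Pi1.IsNormalScheme W →
    (∀ η : W, closure ({η} : Set W) ∈ irreducibleComponents (W : Type u) →
      VarDim.deg (W ↘ Spec (CommRingCat.of k)) η = 1) →
    Nat.card (tors W n) = n ^ (2 * Curv2.genus k W) := by
  intro m
  induction m with
  | zero =>
    intro W _ _ hm _ _
    haveI := CurveCohLib.isNoetherian_of_proper (k := k) (X := W)
    haveI : Finite (irreducibleComponents (W : Type u)) :=
      Set.finite_coe_iff.2 NoetherianSpace.finite_irreducibleComponents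
    haveI : IsEmpty W := ⟨fun w => by
      haveI := Finite.of_equiv _ (componentsEquiv W).symm
      haveI : Nonempty {η : W // closure ({η} : Set W) ∈ irreducibleComponents (W : Type u)} :=
        ⟨(componentsEquiv W).symm ⟨_, irreducibleComponent_mem_irreducibleComponents w⟩⟩
      exact absurd hm (not_le.2 Nat.card_pos)⟩
    rw [card_tors_of_isEmpty, genus_of_isEmpty, mul_zero, pow_zero]
  | succ m ih =>
    intro W _ _ hm hW hdeg
    haveI := CurveCohLib.isNoetherian_of_proper (k := k) (X := W)
    haveI := isReduced_of_normal hW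
    haveI : Finite (irreducibleComponents (W : Type u)) :=
      Set.finite_coe_iff.2 NoetherianSpace.finite_irreducibleComponents
    haveI : Finite {η : W // closure ({η} : Set W) ∈ irreducibleComponents (W : Type u)} :=
      Finite.of_equiv _ (componentsEquiv W).symm
    rcases isEmpty_or_nonempty W with hempty | ⟨⟨w⟩⟩
    · rw [card_tors_of_isEmpty, genus_of_isEmpty, mul_zero, pow_zero]
    have hdim : topologicalKrullDim W ≤ 1 := by
      rw [VarDim.topologicalKrullDim_eq_iSup_deg (W ↘ Spec (CommRingCat.of k))]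
      refine iSup_le fun x => ?_
      obtain ⟨η, hη⟩ := QuasiSober.sober (isIrreducible_irreducibleComponent (x := x)) isClosed_irreducibleComponent
      have h1 : η ⤳ x := specializes_iff_mem_closure.2 (by rw [hη.def]; exact mem_irreducibleComponent)
      have h2 := hdeg η (by rw [hη.def]; exact irreducibleComponent_mem_irreducibleComponents x)
      have h3 := VarDim.deg_le_of_specializes (W ↘ Spec (CommRingCat.of k)) h1
      rw [h2] at h3
      exact_mod_cast h3
    let Z := comp w
    have hZ := isClopen_component hW Z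
    let U : W.Opens := ⟨Z.1, hZ.2⟩
    let V : W.Opens := ⟨Z.1ᶜ, hZ.1.isOpen_compl⟩
    have hVU : (V : Set W) = (U : Set W)ᶜ := rfl
    letI : (U : Scheme.{u}).Over (Spec (CommRingCat.of k)) := ⟨U.ι ≫ (W ↘ Spec (CommRingCat.of k))⟩
    letI : (V : Scheme.{u}).Over (Spec (CommRingCat.of k)) := ⟨V.ι ≫ (W ↘ Spec (CommRingCat.of k))⟩
    haveI := EulerEtale.isClosedImmersion_ι (U := U) hZ.1
    haveI := EulerEtale.isClosedImmersion_ι (U := V) hZ.2.isClosed_compl
    haveI : IsProper ((U : Scheme.{u}) ↘ Spec (CommRingCat.of k)) :=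
      inferInstanceAs (IsProper (U.ι ≫ (W ↘ Spec (CommRingCat.of k))))
    haveI : IsProper ((V : Scheme.{u}) ↘ Spec (CommRingCat.of k)) :=
      inferInstanceAs (IsProper (V.ι ≫ (W ↘ Spec (CommRingCat.of k))))
    have hnormal : ∀ O : W.Opens, Pi1.IsNormalScheme (O : Scheme.{u}) := fun O x => by
      haveI := (hW x.1).1
      haveI := (hW x.1).2
      exact ⟨(O.stalkIso x).commRingCatIsoToRingEquiv.toMulEquiv.isDomain _,
        IsIntegrallyClosed.of_equiv (O.stalkIso x).commRingCatIsoToRingEquiv.symm⟩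
    have hgen : ∀ (O : W.Opens) (η : (O : Scheme.{u})),
        closure ({η} : Set (O : Scheme.{u})) ∈ irreducibleComponents ((O : Scheme.{u}) : Type u) →
          closure ({η.1} : Set W) ∈ irreducibleComponents (W : Type u) := fun O η hη => by
      rw [closure_mem_irreducibleComponents_iff] at hη ⊢
      intro z hz
      have hzO : z ∈ O := hz.mem_open O.2 η.2
      exact congrArg Subtype.val (hη ⟨z, hzO⟩ ((O.ι.isOpenEmbedding.isInducing.specializes_iff).1 hz))
    have hdegO : ∀ (O : W.Opens) [LocallyOfFiniteType (O.ι ≫ (W ↘ Spec (CommRingCat.of k)))] (η : (O : Scheme.{u})),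
        closure ({η} : Set (O : Scheme.{u})) ∈ irreducibleComponents ((O : Scheme.{u}) : Type u) →
          VarDim.deg (O.ι ≫ (W ↘ Spec (CommRingCat.of k))) η = 1 := fun O _ η hη => by
      rw [VarDim.deg_comp (W ↘ Spec (CommRingCat.of k)) O.ι η]
      exact hdeg _ (hgen O η hη)
    rw [card_tors_pieces hVU, genus_add k hdim hVU, mul_add, pow_add]
    congr 1
    · haveI : IrreducibleSpace (U : Scheme.{u}) :=
        @irreducibleSpace_def _ _ |>.2 (by
          have := Subtype.irreducibleSpace Z.2.1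
          exact (irreducibleSpace_def (↥Z.1)).1 this)
      haveI : AlgebraicGeometry.IsReduced (U : Scheme.{u}) := isReduced_of_isOpenImmersion U.ι
      haveI : IsIntegral (U : Scheme.{u}) := isIntegral_of_irreducibleSpace_of_isReduced _
      have hUdim : topologicalKrullDim (U : Scheme.{u}) = 1 := by
        rw [VarDim.topologicalKrullDim_eq_deg_genericPoint ((U : Scheme.{u}) ↘ Spec (CommRingCat.of k))]
        have := hdegO U (genericPoint _) (by
          rw [(genericPoint_spec (U : Scheme.{u})).def, irreducibleComponents_eq_singleton]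
          rfl)
        exact_mod_cast congrArg (fun d : ℕ => (d : WithBot ℕ∞)) this
      haveI : Smooth ((U : Scheme.{u}) ↘ Spec (CommRingCat.of k)) :=
        CurveCohLib.RegularCurve.smooth_of_regular k fun x _ => by
          haveI := CurveCohLib.isNoetherian_of_proper (k := k) (X := (U : Scheme.{u}))
          haveI := (hnormal U x).1
          haveI := (hnormal U x).2
          refine FlatLoc6.regular_of_normal _ ?_
          exact (CurveCohLib.ringKrullDim_stalk_le_topologicalKrullDim x).trans hUdim.le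
      exact Groth.Agent.S6545.result k (U : Scheme.{u}) hUdim n hn
    · refine ih (V : Scheme.{u}) ?_ (hnormal V) (fun η hη => hdegO V η hη)
      let η₀ := (componentsEquiv W).symm Z
      have hη₀ : η₀.1 ∈ Z.1 := by
        have h : closure ({η₀.1} : Set W) = Z.1 := congrArg Subtype.val ((componentsEquiv W).apply_symm_apply Z)
        rw [← h]
        exact subset_closure rfl
      let φ : {η : (V : Scheme.{u}) // closure ({η} : Set (V : Scheme.{u})) ∈ irreducibleComponents ((V : Scheme.{u}) : Type u)} →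
          {η : W // closure ({η} : Set W) ∈ irreducibleComponents (W : Type u)} := fun η => ⟨η.1.1, hgen V η.1 η.2⟩
      haveI : Finite {η : (V : Scheme.{u}) //
          closure ({η} : Set (V : Scheme.{u})) ∈ irreducibleComponents ((V : Scheme.{u}) : Type u)} :=
        Finite.of_injective φ fun a b h => Subtype.ext (Subtype.ext (congrArg (fun z => z.1) h))
      have hlt := Nat.card_le_card_of_injective (fun o : Option _ => o.elim η₀ φ) (by
        rintro (_ | a) (_ | b) h
        · rfl
        · exact absurd hη₀ ((congrArg Subtype.val h : η₀.1 = b.1.1) ▸ b.1.2)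
        · exact absurd hη₀ ((congrArg Subtype.val h : a.1.1 = η₀.1) ▸ a.1.2)
        · exact congrArg some (Subtype.ext (Subtype.ext (congrArg (fun z => z.1) h))))
      rw [Finite.card_option] at hlt
      omega

end Count

end Groth.Agent.PicTors18
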