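import Groth.Agent.PicTors18.Kernel
import Groth.Agent.PicTors18.Global
import Groth.Agent.S1408

/-! Torsion classes along a thickening. -/

set_option autoImplicit false
set_option linter.style.haveILetI false
set_option linter.unusedSectionVars false
set_option backward.isDefEq.respectTransparency false
set_option backward.isDefEq.respectTransparency.types false
set_option maxHeartbeats 1000000

universe u

open CategoryTheory AlgebraicGeometry TopologicalSpace
open Groth.Agent.AModX Groth.Agent.InvX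
open scoped Groth.Agent.H23.PicMul

namespace Groth.Agent.PicTors18

variable {X Y : Scheme.{u}} (i : Y ⟶ X) (hi : MoreMor.IsThickening i) {n : ℕ} (hn0 : 0 < n)
  (hn : IsUnit (n : Γ(Y, ⊤)))

include hi hn0 hn in
/-- A torsion module trivial on the smaller scheme is trivial, if roots of units exist there. -/
theorem nonempty_iso_structure (hroot : ∀ a : Γ(Y, ⊤), IsUnit a → ∃ b : Γ(Y, ⊤), b ^ n = a) {L : X.Modules}
    (hL : PicF.IsInvertible L) (φ : (Scheme.Modules.pullback i).obj L ≅ Coh.structureModule Y)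
    (ψ : CohB1.tensorPow L n ≅ Coh.structureModule X) : Nonempty (L ≅ Coh.structureModule X) := by
  obtain ⟨t⟩ := exists_trv hroot hn0.ne' hL φ ψ
  have hloc : ∀ x : X, ∃ (U : X.Opens) (_ : x ∈ U) (e : Γ(L, U)), IsFrame e ∧ t.co.app U e = 1 ∧
      (show Γ(X, U) from t.pw.app U e) = 1 := fun x => by
    obtain ⟨U, hxU, e, he⟩ := InvX.exists_frame hL x
    have hp : IsUnit (show Γ(X, U) from t.pw.app U e) := t.pw.unit' he
    obtain ⟨w, ⟨hw, hwn⟩, -⟩ := PicTorsThick.existsUnique_root i hi hn0 hn U _ hp (t.co.app U e) (t.co_pow U e)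
    have hwu : IsUnit w := (isUnit_pow_iff hn0.ne').1 (hwn ▸ hp)
    refine ⟨U, hxU, (hwu.unit⁻¹ : Γ(X, U)ˣ).1 • e, he.isUnit_smul (Units.isUnit _), ?_, ?_⟩
    · rw [t.co.smul', pow_one, ← hw, ← map_mul, IsUnit.val_inv_mul, map_one]
    · show (show Γ(X, U) from t.pw.app U ((hwu.unit⁻¹ : Γ(X, U)ˣ).1 • e)) = 1
      rw [t.pw.smul']
      show (hwu.unit⁻¹ : Γ(X, U)ˣ).1 ^ n * (show Γ(X, U) from t.pw.app U e) = 1
      rw [← hwn, ← mul_pow, IsUnit.val_inv_mul, one_pow]
  choose U hU e he h1 h2 using hloc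
  obtain ⟨φ, -⟩ := exists_iso_frames U (fun x => ⟨x, hU x⟩) e he
    (fun x => (show Γ(Coh.structureModule X, U x) from (1 : Γ(X, U x)))) (fun x => isFrame_one _) fun x y => by
      have hle : U x ⊓ U y ≤ U x := inf_le_left
      have hle' : U x ⊓ U y ≤ U y := inf_le_right
      obtain ⟨g, hg⟩ := (he y).exists_coord hle' (res L hle (e x))
      have a1 := congrArg (t.co.app _) hg
      have a2 := congrArg (fun z : Γ(L, U x ⊓ U y) => (show Γ(X, U x ⊓ U y) from t.pw.app _ z)) hg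
      rw [t.co.smul', pow_one, t.co.res', t.co.res', h1, h1, map_one, map_one, mul_one] at a1
      have hres : ∀ (z : X) (h : U x ⊓ U y ≤ U z), (show Γ(X, U x ⊓ U y) from t.pw.app _ (res L h (e z))) = 1 := fun z h => by
        rw [t.pw.res']
        show resR h (show Γ(X, U z) from t.pw.app _ (e z)) = 1
        rw [h2, map_one]
      have a3 : g ^ n = 1 := by
        rw [hres x hle] at a2
        rw [a2]
        show _ = (show Γ(X, U x ⊓ U y) from t.pw.app _ (g • res L hle' (e y)))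
        rw [t.pw.smul']
        show g ^ n = g ^ n * (show Γ(X, U x ⊓ U y) from t.pw.app _ (res L hle' (e y)))
        rw [hres y hle', mul_one]
      obtain ⟨w, -, huniq⟩ := PicTorsThick.existsUnique_root i hi hn0 hn (U x ⊓ U y) 1 isUnit_one 1
        (by rw [one_pow, map_one])
      have hg1 : g = 1 := (huniq g ⟨a1.symm, a3⟩).trans (huniq 1 ⟨map_one _, one_pow _⟩).symm
      subst hg1
      exact ⟨1, hg, by rw [one_smul]; show resR hle (1 : Γ(X, U x)) = resR hle' (1 : Γ(X, U y)); rw [map_one, map_one]⟩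
  exact ⟨φ⟩

include hi hn0 hn in
/-- Torsion classes along a thickening. -/
theorem card_tors_thickening (hroot : ∀ a : Γ(Y, ⊤), IsUnit a → ∃ b : Γ(Y, ⊤), b ^ n = a) :
    Nat.card (tors X n) = Nat.card (tors Y n) := by
  have h := card_eq_ker_mul (H23.PicMul.pullHom i) hn0 (tors X n) (tors Y n) (fun a ha => pow_eq_one_of_mem ha)
    (fun a ha b hb => mul_mem_tors ha hb) (one_mem_tors X n) (by
      rintro c hc
      have h1 := pow_eq_one_of_mem hc
      obtain ⟨M, rfl, hM, -⟩ := hc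
      refine ⟨(Scheme.Modules.pullback i).obj M, rfl, PicLoc.isInvertible_pullback i hM, H23.PicMul.cl_eq_iff.1 ?_⟩
      rw [H23.PicMul.cl_tensorPow]
      show PicF.pullCl i (PicF.cl M) ^ n = _
      rw [← H23.PicMul.pullCl_pow, h1, H23.PicMul.pullCl_one, H23.PicMul.one_def])
    (Groth.Agent.S1408.result i hi n hn0 hn)
  haveI : Subsingleton {a : PicF.Cl X | a ∈ tors X n ∧ H23.PicMul.pullHom i a = 1} := ⟨by
    rintro ⟨a, ⟨M, rfl, hM, ⟨ψ⟩⟩, ha⟩ ⟨b, ⟨M', rfl, hM', ⟨ψ'⟩⟩, hb⟩
    obtain ⟨φ⟩ := H23.PicMul.cl_eq_iff.1 (show PicF.cl ((Scheme.Modules.pullback i).obj M) = PicF.cl _ from ha)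
    obtain ⟨φ'⟩ := H23.PicMul.cl_eq_iff.1 (show PicF.cl ((Scheme.Modules.pullback i).obj M') = PicF.cl _ from hb)
    obtain ⟨e⟩ := nonempty_iso_structure i hi hn0 hn hroot hM φ ψ
    obtain ⟨e'⟩ := nonempty_iso_structure i hi hn0 hn hroot hM' φ' ψ'
    exact Subtype.ext (H23.PicMul.cl_eq_iff.2 ⟨e ≪≫ e'.symm⟩)⟩
  haveI : Nonempty {a : PicF.Cl X | a ∈ tors X n ∧ H23.PicMul.pullHom i a = 1} :=
    ⟨⟨1, one_mem_tors X n, map_one _⟩⟩
  rw [h, Nat.card_of_subsingleton (Classical.arbitrary _), one_mul]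

end Groth.Agent.PicTors18
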