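import Groth.Agent.PicTors18.Data

/-! Twists with their trivialisations, and recognising isomorphisms by values at the bad points. -/

set_option autoImplicit false
set_option linter.style.haveILetI false
set_option linter.unusedSectionVars false
set_option backward.isDefEq.respectTransparency false
set_option backward.isDefEq.respectTransparency.types false
set_option maxHeartbeats 1000000

universe u

open CategoryTheory AlgebraicGeometry TopologicalSpace
open Groth.Agent.AModX Groth.Agent.InvX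

namespace Groth.Agent.PicTors18

/-- A unit is a frame of the structure module. -/
theorem isFrame_unit {X : Scheme.{u}} {U : X.Opens} {r : Γ(X, U)} (hr : IsUnit r) :
    IsFrame (M := Coh.structureModule X) (U := U) r := by
  have h := (isFrame_one U).isUnit_smul hr
  have e : (r • (show Γ(Coh.structureModule X, U) from (1 : Γ(X, U)))) = (show Γ(Coh.structureModule X, U) from r) :=
    mul_one (M := Γ(X, U)) r
  exact e ▸ h

variable {X Y : Scheme.{u}} (π : Y ⟶ X) {B : Set X}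

/-- Functionals agreeing on a cover by frames agree. -/
theorem Fun.eq_of_frames {m : ℕ} {L : X.Modules} (F F' : Fun π m L) {ι : Type u} (U : ι → X.Opens)
    (hcov : ∀ x, ∃ a, x ∈ U a) (e : ∀ a, Γ(L, U a)) (he : ∀ a, IsFrame (e a))
    (h : ∀ a, F.app (U a) (e a) = F'.app (U a) (e a)) (W : X.Opens) (s : Γ(L, W)) : F.app W s = F'.app W s := by
  refine eq_of_locally (M := Coh.structureModule Y) _ _ fun p hp => ?_
  obtain ⟨a, ha⟩ := hcov (π p)
  have hWa : W ⊓ U a ≤ W := inf_le_left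
  refine ⟨π ⁻¹ᵁ (W ⊓ U a), π.preimage_mono hWa, ⟨hp, ha⟩, ?_⟩
  obtain ⟨c, hc⟩ := (he a).exists_coord (inf_le_right : W ⊓ U a ≤ U a) (res L hWa s)
  show resR (π.preimage_mono hWa) (F.app W s) = resR (π.preimage_mono hWa) (F'.app W s)
  rw [← F.res' hWa, ← F'.res' hWa, hc, F.smul', F'.smul', F.res', F'.res', h]

section

variable (hπ : IsSetup π B)

include hπ in
/-- A function which is a unit upstairs is a unit. -/
theorem isUnit_of_app {W : X.Opens} {c : Γ(X, W)} (hc : IsUnit (π.app W c)) : IsUnit c := by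
  rw [← resR_self c]
  refine isUnit_resR le_rfl c fun x hx => ?_
  obtain ⟨y, rfl⟩ := hπ.surjPt x
  have h1 : y ∈ Y.basicOpen (π.app W c) := by rw [Y.basicOpen_of_isUnit hc]; exact hx
  rwa [← Scheme.preimage_basicOpen] at h1

include hπ in
/-- Twists with their trivialisations. -/
theorem exists_twist_trv (U : X → X.Opens) (hU : ∀ x, x ∈ U x) (htight : ∀ x, ∀ b ∈ B, b ∈ U x → b = x)
    (L : X.Modules) (e : ∀ x, Γ(L, U x)) (he : ∀ x, IsFrame (e x))
    (s : ∀ x, Γ(Y, π ⁻¹ᵁ U x)) (hs : ∀ x, IsUnit (s x)) :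
    ∃ (L' : X.Modules) (e' : ∀ x, Γ(L', U x)), PicF.IsInvertible L' ∧ (∀ x, IsFrame (e' x)) ∧
      (∃ φ : (Scheme.Modules.pullback π).obj L' ≅ (Scheme.Modules.pullback π).obj L,
        ∀ x, φ.hom.app (π ⁻¹ᵁ U x) (pullElt π (e' x)) = s x • pullElt π (e x)) ∧
      ∀ (n : ℕ) (Q : Fun π n L) (w : ∀ x, Γ(X, U x)), (∀ x, IsUnit (w x)) →
        (∀ x, s x ^ n * Q.app (U x) (e x) = π.app (U x) (w x)) →
        ∃ ψ : CohB1.tensorPow L' n ≅ Coh.structureModule X,
          ∀ x, ψ.hom.app (U x) (PicTorsThick.powElt (e' x) n) = w x := by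
  obtain ⟨L', e', hL', he', hrel⟩ := exists_twist π hπ U hU htight L e he s hs
  choose g g' hg hg' hgg using hrel
  have hres : ∀ (M : X.Modules) (a : ∀ x, Γ(M, U x)) (c : ∀ x y, Γ(X, U x ⊓ U y))
      (hc : ∀ x y, res M (inf_le_left : U x ⊓ U y ≤ U x) (a x) = c x y • res M inf_le_right (a y)) (x y : X),
      res _ (π.preimage_mono (inf_le_left : U x ⊓ U y ≤ U x)) (pullElt π (a x)) =
        (show Γ(Y, π ⁻¹ᵁ (U x ⊓ U y)) from π.app _ (c x y)) •
          res _ (π.preimage_mono inf_le_right) (pullElt π (a y)) := fun M a c hc x y => by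
    rw [PicNormLib.pullElt_res π (inf_le_left : U x ⊓ U y ≤ U x), PicNormLib.pullElt_res π (inf_le_right : U x ⊓ U y ≤ U y),
      hc, PicNormLib.pullElt_smul]
  refine ⟨L', e', hL', he', ?_, fun n Q w hw hQ => ?_⟩
  · refine exists_iso_frames (fun x => π ⁻¹ᵁ U x) (fun y => ⟨π y, hU _⟩) _ (fun x => isFrame_pullElt π (he' x)) _
      (fun x => (isFrame_pullElt π (he x)).isUnit_smul (hs x)) fun x y => ⟨π.app _ (g' x y), ?_, ?_⟩
    · exact hres L' e' g' hg' x y
    · show res _ (π.preimage_mono (inf_le_left : U x ⊓ U y ≤ U x)) (s x • pullElt π (e x)) =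
        (show Γ(Y, π ⁻¹ᵁ (U x ⊓ U y)) from π.app _ (g' x y)) •
          res _ (π.preimage_mono inf_le_right) (s y • pullElt π (e y))
      rw [res_smul, res_smul, hres L e g hg x y, ← mul_smul, ← mul_smul, hgg, mul_comm]
  · obtain ⟨ψ, hψ⟩ := exists_iso_frames U (fun x => ⟨x, hU x⟩) _ (fun x => PicTorsThick.isFrame_powElt (he' x) n)
      (fun x => (show Γ(Coh.structureModule X, U x) from w x)) (fun x => isFrame_unit (hw x))
      fun x y => ⟨g' x y ^ n, by rw [PicTorsThick.res_powElt, PicTorsThick.res_powElt, hg', PicTorsThick.powElt_smul],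
        hπ.inj _ (show π.app _ (resR inf_le_left (w x)) = π.app _ (g' x y ^ n * resR inf_le_right (w y)) by
          rw [map_mul, map_pow, PicTorsThick.app_resR, PicTorsThick.app_resR, ← hQ, ← hQ, map_mul, map_mul, map_pow,
            map_pow, ← mul_assoc, ← mul_pow, hgg, ← Q.res' (inf_le_left : U x ⊓ U y ≤ U x), ← Q.res' (inf_le_right : U x ⊓ U y ≤ U y), hg, Q.smul', mul_pow]
          ring)⟩
    exact ⟨ψ, hψ⟩

end

section Iso

variable {k : Type u} [Field k] [IsAlgClosed k] (f : X ⟶ Spec (CommRingCat.of k))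
  [LocallyOfFiniteType f] [IsFinite π] [LocallyOfFiniteType (π ≫ f)] (hπ : IsSetup π B) {n : ℕ}
  {L L' : X.Modules}

/-- The values of a trivialisation at the points over the bad set, up to a factor at each bad point. -/
def HasVal (t : Trv π n L) (v : {y : Y // π y ∈ B} → k) : Prop :=
  ∀ (b : X) (hbB : b ∈ B) (hb : IsClosed ({b} : Set X)), ∃ (W : X.Opens) (hbW : b ∈ W) (e : Γ(L, W)) (α : k),
    IsFrame e ∧ α ≠ 0 ∧ ∀ y, valOver f π hb hbW y (t.co.app W e) = α * v ⟨y.1, y.2.symm ▸ hbB⟩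

theorem HasVal.map {t : Trv π n L} {v : {y : Y // π y ∈ B} → k} (h : HasVal π f t v) (φ : L' ≅ L) :
    HasVal π f (t.map φ) v := fun b hbB hb => by
  obtain ⟨W, hbW, e, α, he, hα, hy⟩ := h b hbB hb
  refine ⟨W, hbW, φ.inv.app W e, α, he.map_iso φ.symm, hα, fun y => ?_⟩
  show valOver f π hb hbW y (t.co.app W (φ.hom.app W (φ.inv.app W e))) = _
  rw [show φ.hom.app W (φ.inv.app W e) = e from by
    rw [← ConcreteCategory.comp_apply, ← Scheme.Modules.Hom.comp_app, φ.inv_hom_id, Scheme.Modules.Hom.id_app]; rfl]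
  exact hy y

include hπ in
/-- Trivialisations with the same values come from isomorphic modules. -/
theorem nonempty_iso_of_hasVal [AlgebraicGeometry.IsNoetherian X] (hn : 0 < n) (hnk : IsUnit (n : k))
    (hL : PicF.IsInvertible L) (hL' : PicF.IsInvertible L') (t : Trv π n L) (t' : Trv π n L')
    {v : {y : Y // π y ∈ B} → k} (ht : HasVal π f t v) (ht' : HasVal π f t' v) : Nonempty (L ≅ L') := by
  have hloc : ∀ x : X, ∃ (W : X.Opens) (_ : x ∈ W) (e : Γ(L, W)) (e' : Γ(L', W)),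
      IsFrame e ∧ IsFrame e' ∧ t.co.app W e = t'.co.app W e' := by
    intro x
    have key : ∀ (W : X.Opens) (e : Γ(L, W)) (e' : Γ(L', W)), IsFrame e → IsFrame e' → x ∈ W →
        (∃ (W' : X.Opens) (hW' : W' ≤ W) (_ : x ∈ W') (c : Γ(X, W')),
          π.app W' c * resR (π.preimage_mono hW') (t.co.app W e) = resR (π.preimage_mono hW') (t'.co.app W e')) →
        ∃ (W : X.Opens) (_ : x ∈ W) (e : Γ(L, W)) (e' : Γ(L', W)),
          IsFrame e ∧ IsFrame e' ∧ t.co.app W e = t'.co.app W e' := by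
      rintro W e e' he he' hx ⟨W', hW', hx', c, hc⟩
      have hcu : IsUnit (π.app W' c) := isUnit_of_mul_isUnit_left (hc ▸ (t'.co.unit' he').map _)
      refine ⟨W', hx', c • res L hW' e, res L' hW' e', (he.res hW').isUnit_smul (isUnit_of_app π hπ hcu),
        he'.res hW', ?_⟩
      rw [t.co.smul', pow_one, t.co.res', t'.co.res', hc]
    by_cases hxB : x ∈ B
    · have hb := hπ.closed x hxB
      obtain ⟨W₁, hbW₁, e₁, α, he₁, hα, hy⟩ := ht x hxB hb
      obtain ⟨W₂, hbW₂, e₂, α', he₂, hα', hy'⟩ := ht' x hxB hb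
      have hx : x ∈ W₁ ⊓ W₂ := ⟨hbW₁, hbW₂⟩
      let e := res L (inf_le_left : W₁ ⊓ W₂ ≤ W₁) e₁
      let e' := res L' (inf_le_right : W₁ ⊓ W₂ ≤ W₂) e₂
      have hu := t.co.unit' (he₁.res (inf_le_left : W₁ ⊓ W₂ ≤ W₁))
      have hu' := t'.co.unit' (he₂.res (inf_le_right : W₁ ⊓ W₂ ≤ W₂))
      have hp := t.pw.unit' (he₁.res (inf_le_left : W₁ ⊓ W₂ ≤ W₁))
      refine key _ e e' (he₁.res _) (he₂.res _) hx ?_
      let r := t'.co.app _ e' * hu.unit⁻¹.1
      have hr : r * t.co.app _ e = t'.co.app _ e' := by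
        show t'.co.app _ e' * hu.unit⁻¹.1 * t.co.app _ e = _
        rw [mul_assoc, IsUnit.val_inv_mul, mul_one]
      obtain ⟨W', hW', hx', c, hc⟩ := descends_of_val f π hπ hxB hb hx hn hnk r (hu'.mul (Units.isUnit _))
        ((show Γ(X, W₁ ⊓ W₂) from t'.pw.app _ e') * (show IsUnit (show Γ(X, W₁ ⊓ W₂) from t.pw.app _ e) from hp).unit⁻¹.1)
        (by
          refine (hu.pow n).mul_right_cancel ?_
          rw [← mul_pow, hr, t'.co_pow, t.co_pow, ← map_mul, mul_assoc, IsUnit.val_inv_mul, mul_one])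
        (α' / α) (fun y => by
          have h1 := congrArg (valOver f π hb hx y) hr
          rw [map_mul] at h1
          have e1 : valOver f π hb hx y (t.co.app _ e) = α * v ⟨y.1, y.2.symm ▸ hxB⟩ := by
            rw [t.co.res', valOver_res f π hb (inf_le_left : W₁ ⊓ W₂ ≤ W₁)]; exact hy y
          have e2 : valOver f π hb hx y (t'.co.app _ e') = α' * v ⟨y.1, y.2.symm ▸ hxB⟩ := by
            rw [t'.co.res', valOver_res f π hb (inf_le_right : W₁ ⊓ W₂ ≤ W₂)]; exact hy' y
          have hne : α * v ⟨y.1, y.2.symm ▸ hxB⟩ ≠ 0 := e1 ▸ (hu.map _).ne_zero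
          rw [e1, e2] at h1
          refine mul_right_cancel₀ hne (h1.trans ?_)
          rw [← mul_assoc, div_mul_cancel₀ _ hα])
      exact ⟨W', hW', hx', c, by rw [hc, ← map_mul, hr]⟩
    · have hcl : IsClosed B := by
        rw [← Set.biUnion_of_singleton B]
        exact hπ.finite.isClosed_biUnion fun b hb => hπ.closed b hb
      obtain ⟨W₁, hxW₁, e₁, he₁⟩ := InvX.exists_frame hL x
      obtain ⟨W₂, hxW₂, e₂, he₂⟩ := InvX.exists_frame hL' x
      let W : X.Opens := W₁ ⊓ W₂ ⊓ ⟨Bᶜ, hcl.isOpen_compl⟩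
      have h1 : W ≤ W₁ := inf_le_left.trans inf_le_left
      have h2 : W ≤ W₂ := inf_le_left.trans inf_le_right
      have hu := t.co.unit' (he₁.res h1)
      obtain ⟨c, hc⟩ := hπ.surj W (fun b hb hbW => hbW.2 hb) (t'.co.app W (res L' h2 e₂) * hu.unit⁻¹.1)
      refine key W _ _ (he₁.res h1) (he₂.res h2) ⟨⟨hxW₁, hxW₂⟩, hxB⟩ ⟨W, le_rfl, ⟨⟨hxW₁, hxW₂⟩, hxB⟩, c, ?_⟩
      rw [hc, resR_self, resR_self, mul_assoc, IsUnit.val_inv_mul, mul_one]
  choose U hU e e' he he' hee using hloc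
  obtain ⟨φ, -⟩ := exists_iso_frames U (fun x => ⟨x, hU x⟩) e he e' he' fun x y => by
    obtain ⟨g, hg⟩ := (he y).exists_coord (inf_le_right : U x ⊓ U y ≤ U y) (res L inf_le_left (e x))
    obtain ⟨g', hg'⟩ := (he' y).exists_coord (inf_le_right : U x ⊓ U y ≤ U y) (res L' inf_le_left (e' x))
    have hgg : g = g' := by
      refine hπ.inj _ ?_
      have h1 := congrArg (fun s => resR (π.preimage_mono (inf_le_left : U x ⊓ U y ≤ U x)) s) (hee x)

      rw [← t.co.res' (inf_le_left : U x ⊓ U y ≤ U x), ← t'.co.res' (inf_le_left : U x ⊓ U y ≤ U x), hg, hg', t.co.smul', t'.co.smul', t.co.res', t'.co.res', hee y, pow_one, pow_one] at h1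
      exact ((t'.co.unit' (he' y)).map (resR (π.preimage_mono (inf_le_right : U x ⊓ U y ≤ U y)))).mul_right_cancel h1
    exact ⟨g, hg, hgg ▸ hg'⟩
  exact ⟨φ⟩

end Iso

end Groth.Agent.PicTors18
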